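import Groth.Agent.Comod.Orbit

/-!
# Luna's fundamental lemma over any field: generalities on comodule algebras
-/

set_option autoImplicit false
set_option linter.unusedSectionVars false

universe u v w

noncomputable section

open TensorProduct

namespace Groth.Agent.Comod.LunaGen

variable {k : Type u} [Field k] {H : Type v} [CommRing H] [HopfAlgebra k H]
variable {R : Type w} [CommRing R] [Algebra k R] [HopfRep.Comod k H R] [GLin.IsCoactAlg k H R]
variable {S : Type w} [CommRing S] [Algebra k S] [HopfRep.Comod k H S] [GLin.IsCoactAlg k H S]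

theorem orbitHom_comp {θ : S →ₐ[k] R} (hθ : Hoch.IsComodHom H θ.toLinearMap) (x : R →ₐ[k] k) (s : S) :
    GLin.orbitHom k H x (θ s) = GLin.orbitHom k H (x.comp θ) s := by
  rw [orbitHom_apply_eq, orbitHom_apply_eq,
    show HopfRep.Comod.coact (k := k) (A := H) (θ s) = θ.toLinearMap.rTensor H
      (HopfRep.Comod.coact (k := k) (A := H) s) from LinearMap.congr_fun hθ s,
    ← LinearMap.rTensor_comp_apply]
  rfl

theorem orbit_ker_isSubcomod (x : R →ₐ[k] k) :
    HopfRep.IsSubcomod (k := k) (A := H) ((RingHom.ker (GLin.orbitHom k H x)).restrictScalars k) :=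
  (show LinearMap.ker (GLin.orbitHom k H x).toLinearMap =
      (RingHom.ker (GLin.orbitHom k H x)).restrictScalars k from rfl) ▸
    isSubcomod_ker (isComodHom_orbitHom (A := H) x)

theorem pow_isSubcomod {I : Ideal R} (hI : HopfRep.IsSubcomod (k := k) (A := H) (I.restrictScalars k)) :
    ∀ n : ℕ, HopfRep.IsSubcomod (k := k) (A := H) ((I ^ n).restrictScalars k)
  | 0 => by
    rw [pow_zero, Ideal.one_eq_top, Submodule.restrictScalars_top]
    exact isSubcomod_top
  | n + 1 => by
    rw [pow_succ]
    exact isSubcomod_mul (pow_isSubcomod hI n) hI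

theorem slice_mul_tmul_one' (ψ : H →ₗ[k] k) (w : R ⊗[k] H) (c : R) :
    slice ψ (w * c ⊗ₜ[k] (1 : H)) = slice ψ w * c := by
  induction w using TensorProduct.induction_on with
  | zero => simp
  | tmul p e => simp [slice]
  | add p q hp hq => simp only [map_add, add_mul, hp, hq]

/-- membership of slices in a colon -/
theorem slice_mul_mem' {I J : Submodule k R} (hI : HopfRep.IsSubcomod (k := k) (A := H) I)
    (hJ : HopfRep.IsSubcomod (k := k) (A := H) J) (ψ : H →ₗ[k] k) {r : R} (hr : ∀ y ∈ I, r * y ∈ J)
    {y : R} (hy : y ∈ I) :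
    slice ψ (HopfRep.Comod.coact (k := k) (A := H) r) * y ∈ J := by
  let Φ : R ⊗[k] H →ₗ[k] R ⊗[k] H := TensorProduct.lift (LinearMap.mk₂ k
    (fun v c => HopfRep.Comod.coact (k := k) (A := H) v * ((1 : R) ⊗ₜ[k] HopfAlgebra.antipode k c))
    (fun a b c => by simp [map_add, add_mul]) (fun s a c => by simp [Algebra.smul_mul_assoc])
    (fun a b c => by simp [map_add, TensorProduct.tmul_add, mul_add])
    (fun s a c => by simp [TensorProduct.tmul_smul]))
  have hΦ : Φ (HopfRep.Comod.coact (k := k) (A := H) y) = y ⊗ₜ[k] (1 : H) := by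
    let Ψ : R ⊗[k] (H ⊗[k] H) →ₗ[k] R ⊗[k] H :=
      (LinearMap.mul' k H ∘ₗ (HopfAlgebra.antipode k).lTensor H).lTensor R
    have e1 : ∀ w : R ⊗[k] H, Φ w = Ψ (TensorProduct.assoc k R H H
        ((HopfRep.Comod.coact (k := k) (A := H) (V := R)).rTensor H w)) := by
      intro w
      induction w using TensorProduct.induction_on with
      | zero => simp
      | add y z hy hz => simp only [map_add, hy, hz]
      | tmul v c =>
        simp only [Φ, LinearMap.rTensor_tmul, TensorProduct.lift.tmul, LinearMap.mk₂_apply]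
        induction HopfRep.Comod.coact (k := k) (A := H) v using TensorProduct.induction_on with
        | zero => simp
        | add y z hy hz => simp only [TensorProduct.add_tmul, map_add, add_mul, hy, hz]
        | tmul a b => simp [Ψ]
    have h := LinearMap.congr_fun (HopfRep.Comod.coassoc (k := k) (A := H) (V := R)) y
    simp only [LinearMap.comp_apply, LinearEquiv.coe_coe] at h
    have hc := LinearMap.congr_fun (HopfRep.Comod.counit_comp (k := k) (A := H) (V := R)) y
    simp only [LinearMap.comp_apply, LinearMap.flip_apply, TensorProduct.mk_apply] at hc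
    have e2 : ∀ w : R ⊗[k] H, Ψ ((Coalgebra.comul (R := k) (A := H)).lTensor R w) =
        (Algebra.linearMap k H).lTensor R ((Coalgebra.counit (R := k) (A := H)).lTensor R w) := by
      intro w
      induction w using TensorProduct.induction_on with
      | zero => simp
      | add y z hy hz => simp only [map_add, hy, hz]
      | tmul v c => simp [Ψ, HopfAlgebra.mul_antipode_lTensor_comul_apply]
    rw [e1, h, e2, hc]
    simp
  suffices h : HopfRep.Comod.coact (k := k) (A := H) r * y ⊗ₜ[k] (1 : H) ∈
      LinearMap.range (J.subtype.rTensor H) by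
    have h2 := slice_mem_of_mem_range ψ _ h
    rwa [slice_mul_tmul_one'] at h2
  rw [← hΦ]
  obtain ⟨t, ht⟩ := hI y hy
  rw [← ht]
  clear ht hΦ
  induction t using TensorProduct.induction_on with
  | zero => simp
  | add y z hy hz => simp only [map_add, mul_add]; exact add_mem hy hz
  | tmul v c =>
    simp only [Φ, LinearMap.rTensor_tmul, TensorProduct.lift.tmul, LinearMap.mk₂_apply, Submodule.coe_subtype]
    rw [← mul_assoc, ← GLin.IsCoactAlg.coact_mul]
    obtain ⟨t', ht'⟩ := hJ _ (hr v v.2)
    rw [← ht']
    clear ht'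
    induction t' using TensorProduct.induction_on with
    | zero => simp
    | add y z hy hz => rw [map_add, add_mul]; exact add_mem hy hz
    | tmul a b => exact ⟨a ⊗ₜ[k] (b * HopfAlgebra.antipode k c), by simp⟩

theorem colon_isSubcomod {I J : Submodule k R} (hI : HopfRep.IsSubcomod (k := k) (A := H) I)
    (hJ : HopfRep.IsSubcomod (k := k) (A := H) J) (N : Submodule k R) (hN : ∀ r, r ∈ N ↔ ∀ y ∈ I, r * y ∈ J) :
    HopfRep.IsSubcomod (k := k) (A := H) N :=
  isSubcomod_iff.2 fun ψ r hr => (hN _).2 fun _ hy => slice_mul_mem' hI hJ ψ ((hN r).1 hr) hy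

end Groth.Agent.Comod.LunaGen
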