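import Groth.Agent.Comod.LunaGen.Twist
import Mathlib.Algebra.Category.Ring.Constructions
import Mathlib.RingTheory.Localization.Away.Basic

/-!
# Luna's fundamental lemma over any field: the square is cocartesian
-/

set_option autoImplicit false
set_option linter.unusedSectionVars false
set_option linter.style.haveILetI false

universe u v w

set_option synthInstance.maxHeartbeats 200000

noncomputable section

open TensorProduct CategoryTheory

namespace Groth.Agent.Comod.LunaGen

variable {k : Type u} [Field k] {H : Type v} [CommRing H] [HopfAlgebra k H] {α : H →ₗ[k] k}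
variable {A : Type w} [CommRing A] [Algebra k A] [HopfRep.Comod k H A] [GLin.IsCoactAlg k H A] [IsNoetherianRing A]
variable {B : Type w} [CommRing B] [Algebra k B] [cB : HopfRep.Comod k H B] [GLin.IsCoactAlg k H B] [IsNoetherianRing B]
variable [Algebra A B] [IsScalarTower k A B] [Algebra.Etale A B]
variable [Algebra ↥(GLin.invariants k H A) ↥(GLin.invariants k H B)]
  [IsScalarTower ↥(GLin.invariants k H A) ↥(GLin.invariants k H B) B]
variable [IsScalarTower k ↥(GLin.invariants k H A) ↥(GLin.invariants k H B)]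

set_option quotPrecheck false
local notation "A₀" => ↥(GLin.invariants k H A)
local notation "B₀" => ↥(GLin.invariants k H B)
local notation "θ" => IsScalarTower.toAlgHom k A B

variable (g : ↥(GLin.invariants k H B))

local notation "Rg" => Localization.Away g
local notation "Bg" => Localization.Away (g : B)

/-- the map of the localizations -/
def awayHom : Rg →ₐ[A₀] Bg :=
  { Localization.awayMap (GLin.invariants k H B).val.toRingHom g with
    commutes' := fun a => by
      change Localization.awayMap (GLin.invariants k H B).val.toRingHom g (algebraMap A₀ Rg a) = algebraMap A₀ Bg a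
      rw [IsScalarTower.algebraMap_apply A₀ B₀ Rg, IsScalarTower.algebraMap_apply A₀ B Bg]
      simp only [Localization.awayMap, IsLocalization.Away.map, IsLocalization.map_eq]
      congr 1
      exact (IsScalarTower.algebraMap_apply A₀ B₀ B a).symm }

theorem awayHom_algebraMap (b : B₀) : awayHom (A := A) g (algebraMap B₀ Rg b) = algebraMap B Bg (b : B) := by
  change Localization.awayMap (GLin.invariants k H B).val.toRingHom g (algebraMap B₀ Rg b) = _
  simp only [Localization.awayMap, IsLocalization.Away.map, IsLocalization.map_eq]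
  rfl

theorem awayHom_injective : Function.Injective (awayHom (A := A) g) := by
  rw [injective_iff_map_eq_zero]
  intro z hz
  obtain ⟨⟨b, s⟩, rfl⟩ := IsLocalization.mk'_surjective (Submonoid.powers g) z
  have h1 : algebraMap B Bg (b : B) = 0 := by
    rw [← awayHom_algebraMap (A := A), ← IsLocalization.mk'_spec Rg b s, map_mul, hz, zero_mul]
  obtain ⟨⟨_, n, rfl⟩, hn⟩ := (IsLocalization.map_eq_zero_iff (Submonoid.powers (g : B)) Bg _).1 h1
  exact (IsLocalization.mk'_eq_zero_iff _ _).2 ⟨⟨g ^ n, n, rfl⟩, Subtype.ext (by simpa using hn)⟩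

/-- the comparison map -/
def cartMap : A ⊗[A₀] Rg →ₐ[A] Bg :=
  Algebra.TensorProduct.lift (Algebra.ofId A Bg) (awayHom g) fun _ _ => Commute.all _ _

theorem cartMap_tmul (a : A) (r : Rg) : cartMap (A := A) g (a ⊗ₜ[A₀] r) = algebraMap A Bg a * awayHom (A := A) g r := by
  simp [cartMap]

theorem cartMap_surjective (t : Finset B) (ht : Algebra.adjoin A (t : Set B) = ⊤) {g' : B₀} (hg' : g' ∣ g)
    (hgen : ∀ y ∈ t, (g' : B) * y ∈ Algebra.adjoin A (GLin.invariants k H B : Set B)) :
    Function.Surjective (cartMap (A := A) g) := by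
  let T : Subalgebra A Bg := (cartMap (A := A) g).range
  obtain ⟨c, hc⟩ := hg'
  have hB₀ : ∀ b : B₀, algebraMap B Bg (b : B) ∈ T := fun b =>
    ⟨(1 : A) ⊗ₜ algebraMap B₀ Rg b, by
      change cartMap g _ = _
      rw [cartMap_tmul, map_one, one_mul, awayHom_algebraMap]⟩
  let inv : Bg := awayHom (A := A) g (IsLocalization.mk' Rg (1 : B₀) (⟨g, Submonoid.mem_powers g⟩ : Submonoid.powers g))
  have hinv : algebraMap B Bg (g : B) * inv = 1 := by
    rw [← awayHom_algebraMap (A := A), ← map_mul, IsLocalization.mul_mk'_eq_mk'_of_mul, mul_one,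
      IsLocalization.mk'_self, map_one]
  have hinvT : inv ∈ T := ⟨(1 : A) ⊗ₜ IsLocalization.mk' Rg (1 : B₀) (⟨g, Submonoid.mem_powers g⟩ : Submonoid.powers g), by
      change cartMap g _ = _
      rw [cartMap_tmul, map_one, one_mul]⟩
  have hB : ∀ b : B, algebraMap B Bg b ∈ T := by
    intro b
    have hb : b ∈ Algebra.adjoin A (t : Set B) := ht ▸ Algebra.mem_top
    refine (Algebra.adjoin_le ?_ : _ ≤ T.comap (IsScalarTower.toAlgHom A B Bg)) hb
    intro y hy
    have h1 : algebraMap B Bg ((g' : B) * y) ∈ T :=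
      (Algebra.adjoin_le (S := T.comap (IsScalarTower.toAlgHom A B Bg)) fun z hz => hB₀ ⟨z, hz⟩) (hgen y hy)
    change algebraMap B Bg y ∈ T
    have h2 := T.mul_mem (T.mul_mem h1 (hB₀ c)) hinvT
    rwa [← map_mul, show (g' : B) * y * (c : B) = y * (g : B) by rw [hc]; push_cast; ring, map_mul, mul_assoc,
      hinv, mul_one] at h2
  intro z
  obtain ⟨⟨b, _, n, rfl⟩, rfl⟩ := IsLocalization.mk'_surjective (Submonoid.powers (g : B)) z
  have h1 := T.mul_mem (hB b) (T.pow_mem hinvT n)
  have h2 : IsLocalization.mk' Bg b (⟨(g : B) ^ n, n, rfl⟩ : Submonoid.powers (g : B)) = algebraMap B Bg b * inv ^ n := by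
    rw [IsLocalization.mk'_eq_iff_eq_mul, map_pow, mul_assoc, ← mul_pow, mul_comm inv, hinv, one_pow, mul_one]
  change IsLocalization.mk' Bg b _ ∈ T
  rw [h2]
  exact h1

/-- Luna: the comparison map is injective -/
theorem cartMap_injective (hα : IsIntegral k α) (hθ : Hoch.IsComodHom H (θ).toLinearMap)
    [Algebra.Etale A₀ Rg] (hsurj : Function.Surjective (cartMap (A := A) g)) :
    Function.Injective (cartMap (A := A) g) := by
  haveI : Algebra.Etale B Bg := Algebra.Etale.of_isLocalizationAway (g : B)
  haveI : Algebra.Etale A Bg := Algebra.Etale.comp A B Bg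
  exact injective_of_surjective hα hθ (fun a => a.2) (g : B) g.2 (cartMap (A := A) g) hsurj
    (awayHom (A := A) g).toRingHom (awayHom_injective g) (fun a r => cartMap_tmul g a r)
    (fun r => by
      obtain ⟨⟨b, s⟩, rfl⟩ := IsLocalization.mk'_surjective (Submonoid.powers g) r
      obtain ⟨_, n, rfl⟩ := s
      refine ⟨b, n, b.2, ?_⟩
      change awayHom (A := A) g _ * _ = _
      rw [← map_pow, ← SubmonoidClass.coe_pow, ← awayHom_algebraMap (A := A), ← map_mul]
      refine (congrArg (awayHom (A := A) g) ?_).trans (awayHom_algebraMap (A := A) g b)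
      exact IsLocalization.mk'_spec Rg b (⟨g ^ n, n, rfl⟩ : Submonoid.powers g))
    (fun a ha => ⟨⟨a, ha⟩, rfl⟩)

theorem isPushout_of_bijective (h : Function.Bijective (cartMap (A := A) g)) :
    IsPushout (CommRingCat.ofHom (algebraMap A₀ A)) (CommRingCat.ofHom (algebraMap A₀ Rg))
      (CommRingCat.ofHom (algebraMap A Bg)) (CommRingCat.ofHom (awayHom (A := A) g).toRingHom) := by
  refine (CommRingCat.isPushout_tensorProduct A₀ A Rg).of_iso (Iso.refl _) (Iso.refl _) (Iso.refl _)
    (RingEquiv.ofBijective (cartMap (A := A) g) h).toCommRingCatIso ?_ ?_ ?_ ?_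
  · simp
  · simp
  · refine CommRingCat.hom_ext (RingHom.ext fun a => ?_)
    change cartMap g (a ⊗ₜ[A₀] (1 : Rg)) = algebraMap A Bg a
    rw [cartMap_tmul, map_one, mul_one]
  · refine CommRingCat.hom_ext (RingHom.ext fun r => ?_)
    change cartMap (A := A) g ((1 : A) ⊗ₜ[A₀] r) = awayHom (A := A) g r
    rw [cartMap_tmul, map_one, one_mul]

end Groth.Agent.Comod.LunaGen
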