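import Groth.Agent.Comod.LunaGen.Topology
import Groth.Agent.Comod.LunaAlg
import Groth.Agent.RegLoc.Basic
import Mathlib.RingTheory.Etale.Locus
import Mathlib.RingTheory.Nakayama

/-!
# Luna's fundamental lemma over any field: invariants and generators
-/

set_option autoImplicit false
set_option linter.unusedSectionVars false
set_option linter.style.haveILetI false

universe u v w

noncomputable section

open TensorProduct

namespace Groth.Agent.Comod.LunaGen

variable {k : Type u} [Field k] {H : Type v} [CommRing H] [HopfAlgebra k H] {α : H →ₗ[k] k}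
variable {A : Type w} [CommRing A] [Algebra k A] [HopfRep.Comod k H A] [GLin.IsCoactAlg k H A] [IsNoetherianRing A]
variable {B : Type w} [CommRing B] [Algebra k B] [cB : HopfRep.Comod k H B] [GLin.IsCoactAlg k H B] [IsNoetherianRing B]
variable [Algebra A B] [IsScalarTower k A B] [Algebra.Etale A B]
variable [Algebra ↥(GLin.invariants k H A) ↥(GLin.invariants k H B)]
  [IsScalarTower ↥(GLin.invariants k H A) ↥(GLin.invariants k H B) B]

set_option quotPrecheck false
local notation "A₀" => ↥(GLin.invariants k H A)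
local notation "B₀" => ↥(GLin.invariants k H B)
local notation "θ" => IsScalarTower.toAlgHom k A B

theorem algebraMap_coe (a : A₀) : (algebraMap A₀ B₀ a : B) = algebraMap A B (a : A) :=
  (IsScalarTower.algebraMap_apply A₀ B₀ B a).symm.trans (IsScalarTower.algebraMap_apply A₀ A B a)

theorem orbitHom_of_fixed {R : Type w} [CommRing R] [Algebra k R] [HopfRep.Comod k H R] [GLin.IsCoactAlg k H R]
    (x : R →ₐ[k] k) (r : GLin.invariants k H R) : GLin.orbitHom k H x (r : R) = algebraMap k H (x (r : R)) := by
  rw [orbitHom_apply_eq, (GLin.mem_invariants_iff k H R (r : R)).1 r.2, LinearMap.rTensor_tmul, TensorProduct.lid_tmul,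
    Algebra.algebraMap_eq_smul_one, AlgHom.toLinearMap_apply]

theorem mem_ker_orbit_iff {R : Type w} [CommRing R] [Algebra k R] [HopfRep.Comod k H R] [GLin.IsCoactAlg k H R]
    (x : R →ₐ[k] k) (r : GLin.invariants k H R) :
    (r : R) ∈ RingHom.ker (GLin.orbitHom k H x) ↔ x (r : R) = 0 := by
  rw [RingHom.mem_ker, orbitHom_of_fixed]
  refine ⟨fun h => ?_, fun h => by rw [h, map_zero]⟩
  have := congrArg (Coalgebra.counit (R := k)) h
  simpa using this

variable (w : B →ₐ[k] k)

/-- the ideal of the point in the invariants -/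
def pt : Ideal B₀ := RingHom.ker (w.comp (GLin.invariants k H B).val)

instance : (pt (H := H) w).IsMaximal :=
  RingHom.ker_isMaximal_of_surjective _ fun c => ⟨algebraMap k B₀ c, by simp⟩

theorem pt_eq : pt (H := H) w =
    (RingHom.ker (GLin.orbitHom k H w)).comap (GLin.invariants k H B).val :=
  Ideal.ext fun r => (mem_ker_orbit_iff w r).symm

variable {w}

theorem invariants_finiteType (hα : IsIntegral k α) (hθ : Hoch.IsComodHom H (θ).toLinearMap) :
    Algebra.FiniteType A₀ B₀ := by
  classical
  obtain ⟨s, hs, hgen⟩ := exists_generators (A := A) (C := B) hα hθ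
  refine ⟨s.attach.image fun x => ⟨x.1, hs x.1 x.2⟩, eq_top_iff.2 fun x _ => ?_⟩
  let T : Subalgebra A₀ B₀ := Algebra.adjoin A₀ ↑(s.attach.image fun x => (⟨x.1, hs x.1 x.2⟩ : B₀))
  have hle : Algebra.adjoin k (⇑(algebraMap A B) '' ↑(GLin.invariants k H A) ∪ ↑s) ≤
      (T.map (IsScalarTower.toAlgHom A₀ B₀ B)).restrictScalars k := by
    refine Algebra.adjoin_le (Set.union_subset ?_ fun y hy => ?_)
    · rintro _ ⟨r, hr, rfl⟩
      exact ⟨algebraMap A₀ B₀ ⟨r, hr⟩, T.algebraMap_mem _, algebraMap_coe _⟩
    · exact ⟨⟨y, hs y hy⟩, Algebra.subset_adjoin (Finset.mem_coe.2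
        (Finset.mem_image.2 ⟨⟨y, hy⟩, Finset.mem_attach _ _, rfl⟩)), rfl⟩
  obtain ⟨y, hy, hyx⟩ := hle (hgen ▸ x.2 : (x : B) ∈ _)
  rwa [show x = y from Subtype.ext hyx.symm]

theorem exists_sub_mem_pow {S R : Type w} [CommRing S] [CommRing R] [Algebra S R] (n : Ideal S) (m : Ideal R)
    (hkey : m ≤ n.map (algebraMap S R) ⊔ m ^ 2) (happ : ∀ (N : ℕ) (b : R), ∃ a : S, b - algebraMap S R a ∈ m ^ N)
    (N M : ℕ) {x : R} (hx : x ∈ m ^ N) : ∃ s' ∈ n ^ N, x - algebraMap S R s' ∈ m ^ M := by
  have h1 : ∀ M, m ≤ n.map (algebraMap S R) ⊔ m ^ (M + 1) := by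
    intro M
    induction M with
    | zero => rw [zero_add, pow_one]; exact le_sup_right
    | succ M ih =>
      refine hkey.trans (sup_le le_sup_left ?_)
      rw [pow_two]
      refine (Ideal.mul_mono_right ih).trans ?_
      rw [Ideal.mul_sup, ← pow_succ']
      exact sup_le (le_sup_of_le_left Ideal.mul_le_right) le_sup_right
  have h2 : ∀ (a c : Ideal R) (N : ℕ), (a ⊔ c) ^ N ≤ a ^ N ⊔ c := by
    intro a c N
    induction N with
    | zero => simp
    | succ N ih =>
      rw [pow_succ]
      refine (Ideal.mul_mono_left ih).trans ?_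
      rw [Ideal.sup_mul, Ideal.mul_sup, pow_succ a]
      exact sup_le (sup_le le_sup_left (le_sup_of_le_right Ideal.mul_le_right))
        (le_sup_of_le_right Ideal.mul_le_left)
  have h3 : m ^ N ≤ (n ^ N).map (algebraMap S R) ⊔ m ^ M := by
    rw [Ideal.map_pow]
    exact ((Ideal.pow_right_mono (h1 M) N).trans (h2 _ _ N)).trans
      (sup_le_sup_left (Ideal.pow_le_pow_right (Nat.le_succ M)) _)
  obtain ⟨p, hp, q, hq, rfl⟩ := Submodule.mem_sup.1 (h3 hx)
  obtain ⟨s', hs', hps'⟩ : ∃ s' ∈ n ^ N, p - algebraMap S R s' ∈ m ^ M := by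
    clear hx
    induction hp using Submodule.span_induction with
    | mem p hp =>
      obtain ⟨i, hi, rfl⟩ := hp
      exact ⟨i, hi, by simp⟩
    | zero => exact ⟨0, zero_mem _, by simp⟩
    | add x y _ _ hx hy =>
      obtain ⟨a, ha, hax⟩ := hx; obtain ⟨c, hc, hcy⟩ := hy
      exact ⟨a + c, add_mem ha hc, by rw [map_add, add_sub_add_comm]; exact add_mem hax hcy⟩
    | smul c x _ hx =>
      obtain ⟨a, ha, hax⟩ := hx
      obtain ⟨e, he⟩ := happ M c
      refine ⟨e * a, Ideal.mul_mem_left _ _ ha, ?_⟩
      rw [smul_eq_mul, map_mul, show c * x - algebraMap S R e * algebraMap S R a =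
        c * (x - algebraMap S R a) + (c - algebraMap S R e) * algebraMap S R a by ring]
      exact add_mem (Ideal.mul_mem_left _ _ hax) (Ideal.mul_mem_right _ _ he)
  exact ⟨s', hs', by rw [add_sub_right_comm]; exact add_mem hps' hq⟩

/-- Luna: the map of invariants is étale at the point -/
theorem exists_etale_away (hα : IsIntegral k α) (hθ : Hoch.IsComodHom H (θ).toLinearMap) (w : B →ₐ[k] k)
    (hw : GLin.IsClosedOrbit k H w) (hφw : GLin.IsClosedOrbit k H (w.comp θ))
    (hst : GLin.stabIdeal k H (w.comp θ) = GLin.stabIdeal k H w) :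
    ∃ g : B₀, g ∉ pt (H := H) w ∧ Algebra.Etale A₀ (Localization.Away g) := by
  classical
  have het : (θ).toRingHom.Etale := by
    rw [show (θ).toRingHom = algebraMap A B from rfl, RingHom.etale_algebraMap]
    infer_instance
  obtain ⟨happ, hinj⟩ := approx hθ het w hw hφw hst
  let I := RingHom.ker (GLin.orbitHom k H (w.comp θ))
  let J := RingHom.ker (GLin.orbitHom k H w)
  let m := pt (H := H) w
  let n := m.comap (algebraMap A₀ B₀)
  have hn : n = I.comap (GLin.invariants k H A).val := by
    refine Ideal.ext fun a => ?_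
    rw [Ideal.mem_comap, Ideal.mem_comap]
    refine Iff.trans ?_ (mem_ker_orbit_iff (w.comp θ) a).symm
    change w (algebraMap A₀ B₀ a : B) = 0 ↔ w (algebraMap A B (a : A)) = 0
    rw [algebraMap_coe]
  haveI : n.IsMaximal := by
    rw [show n = RingHom.ker ((w.comp θ).comp (GLin.invariants k H A).val) from
      hn.trans (Ideal.ext fun a => mem_ker_orbit_iff (w.comp θ) a)]
    exact RingHom.ker_isMaximal_of_surjective _ fun c => ⟨algebraMap k A₀ c, by simp⟩
  haveI : IsNoetherianRing A₀ := isNoetherianRing_invariants hα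
  haveI : IsNoetherianRing B₀ := isNoetherianRing_invariants hα
  haveI := invariants_finiteType (α := α) hα hθ
  haveI : Algebra.FinitePresentation A₀ B₀ := Algebra.FinitePresentation.of_finiteType.1 inferInstance
  obtain ⟨dB, hdB, hB⟩ := exists_pow_inter_le hα (orbit_ker_isSubcomod (H := H) w)
  obtain ⟨dA, hdA, hA⟩ := exists_pow_inter_le hα (orbit_ker_isSubcomod (H := H) (w.comp θ))
  have happ₀ : ∀ (N : ℕ) (b : B₀), ∃ a : A₀, b - algebraMap A₀ B₀ a ∈ m ^ N := by
    intro N b
    obtain ⟨a, ha⟩ := happ (dB * N) (b : B)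
    refine ⟨⟨avg α a, avg_mem hα a⟩, ?_⟩
    rw [show m = _ from pt_eq w]
    refine hB N _ ?_
    have h1 := avg_mem_of_isSubcomod α (pow_isSubcomod (orbit_ker_isSubcomod (H := H) w) (dB * N))
      (u := (b : B) - θ a) ha
    rw [map_sub, avg_eq_self hα b.2, show avg α ((θ) a) = θ (avg α a) from (map_avg α hθ a).symm] at h1
    simpa [algebraMap_coe] using h1
  have hmJ : ∀ (N : ℕ) (b : B₀), b ∈ m ^ N → (b : B) ∈ J ^ N := by
    intro N b hb
    rw [show m = _ from pt_eq w] at hb
    exact Ideal.le_comap_pow _ _ hb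
  have hkey : m ≤ n.map (algebraMap A₀ B₀) ⊔ m ^ 2 := by
    intro b hb
    obtain ⟨a, ha⟩ := happ₀ 2 b
    have han : a ∈ n := by
      rw [Ideal.mem_comap]
      have := sub_mem hb (Ideal.pow_le_self two_ne_zero ha)
      rwa [sub_sub_cancel] at this
    rw [show b = algebraMap A₀ B₀ a + (b - algebraMap A₀ B₀ a) by ring]
    exact Submodule.add_mem_sup (Ideal.mem_map_of_mem _ han) ha
  have hker : ∀ (N : ℕ) (s : A₀), algebraMap A₀ B₀ s ∈ m ^ N → ∃ u : A₀, u ∉ n ∧ u * s ∈ n ^ N := by
    intro N s hs
    refine ⟨1, n.one_notMem, ?_⟩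
    rw [one_mul]
    let M := dA * N
    obtain ⟨s', hs', hps'⟩ := exists_sub_mem_pow n m hkey happ₀ N M hs
    have h1 : algebraMap A₀ B₀ (s - s') ∈ m ^ M := by
      rw [map_sub]
      exact hps' 
    have h2 := hinj M ((s - s' : A₀) : A) (by
      have := hmJ M _ h1
      rwa [algebraMap_coe] at this)
    have h3 := hA N (s - s') h2
    rw [← hn] at h3
    simpa using add_mem h3 hs'
  haveI : m.LiesOver n := ⟨rfl⟩
  letI := Localization.AtPrime.algebraOfLiesOver n m
  have hres : ∀ b : B₀, ∃ a : A₀, b - algebraMap A₀ B₀ a ∈ m := fun b => by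
    simpa using happ₀ 1 b
  have hsurjres : Function.Surjective (algebraMap n.ResidueField m.ResidueField) := by
    intro z
    obtain ⟨r, rfl⟩ := m.algebraMap_residueField_surjective z
    obtain ⟨a, ha⟩ := hres r
    refine ⟨algebraMap A₀ n.ResidueField a, ?_⟩
    rw [← IsScalarTower.algebraMap_apply A₀ n.ResidueField m.ResidueField,
      IsScalarTower.algebraMap_apply A₀ B₀ m.ResidueField]
    have := Ideal.algebraMap_residueField_eq_zero.2 ha
    rw [map_sub, sub_eq_zero] at this
    exact this.symm
  have hunr : Algebra.IsUnramifiedAt A₀ m := by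
    refine (Algebra.isUnramifiedAt_iff_map_eq A₀ n m).2 ⟨?_, ?_⟩
    · exact AlgEquiv.Algebra.isSeparable (AlgEquiv.ofBijective (Algebra.ofId n.ResidueField m.ResidueField)
        ⟨(algebraMap n.ResidueField m.ResidueField).injective, hsurjres⟩)
    · refine RegLoc.eq_maximalIdeal_of_le_sup_sq ?_ ?_
      · rw [← Localization.AtPrime.map_eq_maximalIdeal, IsScalarTower.algebraMap_eq A₀ B₀, ← Ideal.map_map]
        exact Ideal.map_mono Ideal.map_comap_le
      · have h := Ideal.map_mono (f := algebraMap B₀ (Localization.AtPrime m)) hkey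
        rwa [Ideal.map_sup, Ideal.map_pow, Localization.AtPrime.map_eq_maximalIdeal, Ideal.map_map,
          ← IsScalarTower.algebraMap_eq] at h
  haveI : (Ideal.comap (algebraMap A₀ B₀) m).IsMaximal := ‹n.IsMaximal›
  haveI : Algebra.IsEtaleAt A₀ m := LunaAlg.isEtaleAt_of_pow_comap m hres hker
  obtain ⟨g, hg, hget⟩ := Algebra.exists_etale_of_isEtaleAt (R := A₀) m
  exact ⟨g, hg, hget⟩

theorem exists_single_of_degree {σ : Type*} [DecidableEq σ] (d : σ →₀ ℕ) (h : d.degree = 1) :
    ∃ i, d = Finsupp.single i 1 := by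
  obtain ⟨i, hi⟩ := Finsupp.support_nonempty_iff.2 (show d ≠ 0 by rintro rfl; simp at h)
  refine ⟨i, ?_⟩
  have hle : Finsupp.single i 1 ≤ d := Finsupp.single_le_iff.2 (Nat.pos_of_ne_zero (Finsupp.mem_support_iff.1 hi))
  obtain ⟨e, rfl⟩ := exists_add_of_le hle
  rw [map_add, Finsupp.degree_single] at h
  rw [(Finsupp.degree_eq_zero_iff e).1 (by omega), add_zero]

theorem comp_one_mul {σ : Type*} {R : Type*} [CommRing R] [DecidableEq σ] (p q : MvPolynomial σ R) :
    MvPolynomial.homogeneousComponent 1 (p * q) =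
      MvPolynomial.C (p.coeff 0) * MvPolynomial.homogeneousComponent 1 q +
      MvPolynomial.C (q.coeff 0) * MvPolynomial.homogeneousComponent 1 p := by
  ext d
  simp only [MvPolynomial.coeff_add, MvPolynomial.coeff_C_mul, MvPolynomial.coeff_homogeneousComponent]
  split_ifs with hd
  · obtain ⟨i, rfl⟩ := exists_single_of_degree d hd
    rw [MvPolynomial.coeff_mul, Finsupp.antidiagonal_single, Finset.sum_map,
      show Finset.HasAntidiagonal.antidiagonal 1 = ({(0, 1), (1, 0)} : Finset (ℕ × ℕ)) from rfl]
    simp [mul_comm]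
  · simp

/-- generators of `B` come from `A` and the invariants after inverting an invariant -/
theorem exists_mul_mem_adjoin (hα : IsIntegral k α) (hθ : Hoch.IsComodHom H (θ).toLinearMap) (w : B →ₐ[k] k)
    (hw : GLin.IsClosedOrbit k H w) (hφw : GLin.IsClosedOrbit k H (w.comp θ))
    (hst : GLin.stabIdeal k H (w.comp θ) = GLin.stabIdeal k H w) :
    ∃ (g : B₀) (t : Finset B), g ∉ pt (H := H) w ∧ Algebra.adjoin A (t : Set B) = ⊤ ∧
      ∀ y ∈ t, (g : B) * y ∈ Algebra.adjoin A (GLin.invariants k H B : Set B) := by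
  classical
  have het : (θ).toRingHom.Etale := by
    rw [show (θ).toRingHom = algebraMap A B from rfl, RingHom.etale_algebraMap]
    infer_instance
  obtain ⟨happ, -⟩ := approx hθ het w hw hφw hst
  obtain ⟨t, ht⟩ := Algebra.FiniteType.out (R := A) (A := B)
  obtain ⟨U, hfin, htU, hU⟩ := exists_finite_subcomod (k := k) (A := H) t
  letI cU := ComodSub.Comod.restr cB U hU
  have hs : Hoch.IsComodHom H U.subtype :=
    (ComodSub.rTensor_subtype_comp_restrCoact cB U hU).symm
  let v := Module.finBasis k U
  let a := mat H v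
  have ha : IsMat k a := isMat_mat v
  let b := fun i j => HopfAlgebra.antipode k (a j i)
  have hb : IsMat k b := isMat_dual ha
  letI cP := polyComod B hb
  letI cQ := polyComod A hb
  haveI : GLin.IsCoactAlg k H (MvPolynomial (Fin (Module.finrank k U)) B) :=
    ⟨map_one (polyCoact B b), map_mul (polyCoact B b)⟩
  let ι := Fin (Module.finrank k U)
  let Θ : MvPolynomial ι B := ∑ i, MvPolynomial.C (v i : B) * MvPolynomial.X i
  have hΘfix : Θ ∈ HopfRep.fixedPts k H (MvPolynomial ι B) := by
    change polyCoact B b Θ = Θ ⊗ₜ[k] (1 : H)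
    have hv : ∀ i, HopfRep.Comod.coact (k := k) (A := H) (v i : B) = ∑ l, (v l : B) ⊗ₜ[k] a l i := fun i => by
      have h1 := LinearMap.congr_fun hs (v i)
      simp only [LinearMap.comp_apply, Submodule.subtype_apply, coact_basis, map_sum,
        LinearMap.rTensor_tmul] at h1
      exact h1
    calc polyCoact B b Θ
        = ∑ i, ∑ l, ∑ r, (MvPolynomial.C (v l : B) * MvPolynomial.X r : MvPolynomial ι B) ⊗ₜ[k] (a l i * b r i) := by
          simp only [Θ, map_sum, map_mul, polyCoact_C, polyCoact_X, hv, Finset.sum_mul, Finset.mul_sum,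
            Algebra.TensorProduct.map_tmul, AlgHom.id_apply, Algebra.TensorProduct.tmul_mul_tmul,
            IsScalarTower.coe_toAlgHom', MvPolynomial.algebraMap_eq]
          refine Finset.sum_congr rfl fun _ _ => ?_
          exact Finset.sum_comm
      _ = ∑ l, ∑ r, (MvPolynomial.C (v l : B) * MvPolynomial.X r : MvPolynomial ι B) ⊗ₜ[k] (∑ i, a l i * b r i) := by
          rw [Finset.sum_comm]
          refine Finset.sum_congr rfl fun l _ => ?_
          rw [Finset.sum_comm]
          simp only [TensorProduct.tmul_sum]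
      _ = Θ ⊗ₜ[k] (1 : H) := by
          simp only [b, mul_antipode_mat ha, Θ, TensorProduct.sum_tmul]
          refine Finset.sum_congr rfl fun l _ => ?_
          rw [Finset.sum_eq_single l] <;> simp +contextual [eq_comm]
  let φ' : MvPolynomial ι A →ₐ[k] MvPolynomial ι B := MvPolynomial.mapAlgHom θ
  have hφ' : Hoch.IsComodHom H φ'.toLinearMap := by
    have key : ((polyCoact B b).comp φ').toRingHom =
        ((Algebra.TensorProduct.map φ' (AlgHom.id k H)).comp (polyCoact A b)).toRingHom := by
      refine MvPolynomial.ringHom_ext (fun x => ?_) (fun j => ?_)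
      · have h1 := LinearMap.congr_fun hθ x
        simp only [LinearMap.comp_apply, AlgHom.toLinearMap_apply] at h1
        simp only [AlgHom.toRingHom_eq_coe, RingHom.coe_coe, AlgHom.comp_apply, polyCoact_C, φ',
          MvPolynomial.mapAlgHom_apply, MvPolynomial.map_C]
        change Algebra.TensorProduct.map _ _ (HopfRep.Comod.coact (k := k) (A := H) ((θ) x)) = _
        rw [h1]
        induction HopfRep.Comod.coact (k := k) (A := H) x using TensorProduct.induction_on with
        | zero => simp
        | add p q hp hq => simp only [map_add, hp, hq]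
        | tmul p q => simp
      · simp [φ']
        rfl
    exact LinearMap.ext fun x => RingHom.congr_fun key x
  let comp₁ : MvPolynomial ι B →ₗ[k] MvPolynomial ι B :=
    (MvPolynomial.homogeneousComponent (σ := ι) (R := B) 1).restrictScalars k
  have hC : Hoch.IsComodHom H (IsScalarTower.toAlgHom k B (MvPolynomial ι B)).toLinearMap := C_isComodHom hb
  have hfixC : ∀ c : B₀, (MvPolynomial.C (c : B) : MvPolynomial ι B) ∈ HopfRep.fixedPts k H (MvPolynomial ι B) :=
    fun c => map_mem_fixedPts hC c.2
  let M₁ : Submodule B₀ (MvPolynomial ι B) :=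
    { carrier := {x | x ∈ HopfRep.fixedPts k H (MvPolynomial ι B) ∧ x.IsHomogeneous 1}
      zero_mem' := ⟨zero_mem _, MvPolynomial.isHomogeneous_zero _ _ _⟩
      add_mem' := fun hx hy => ⟨add_mem hx.1 hy.1, hx.2.add hy.2⟩
      smul_mem' := fun c x hx => by
        rw [Algebra.smul_def, show algebraMap B₀ (MvPolynomial ι B) c = MvPolynomial.C (c : B) from rfl]
        exact ⟨(GLin.invariants k H (MvPolynomial ι B)).mul_mem (hfixC c) hx.1,
          by simpa using (MvPolynomial.isHomogeneous_C _ (c : B)).mul hx.2⟩ }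
  have hM₁ : M₁.FG := by
    have hfg : (Submodule.span B (M₁ : Set (MvPolynomial ι B))).FG := by
      have hL : (MvPolynomial.homogeneousSubmodule ι B 1).FG := by
        rw [MvPolynomial.homogeneousSubmodule_one_eq_span_X]
        exact Submodule.fg_span (Set.finite_range _)
      haveI := isNoetherian_of_fg_of_noetherian _ hL
      have hle : Submodule.span B (M₁ : Set (MvPolynomial ι B)) ≤ MvPolynomial.homogeneousSubmodule ι B 1 :=
        Submodule.span_le.2 fun x hx => hx.2
      have := Submodule.FG.map (MvPolynomial.homogeneousSubmodule ι B 1).subtype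
        (IsNoetherian.noetherian ((Submodule.span B (M₁ : Set (MvPolynomial ι B))).comap
          (MvPolynomial.homogeneousSubmodule ι B 1).subtype))
      rwa [Submodule.map_comap_subtype, inf_eq_right.2 hle] at this
    obtain ⟨s, hsM, hspan⟩ := (Submodule.fg_span_iff_fg_span_finset_subset _).1 hfg
    refine ⟨s, le_antisymm (Submodule.span_le.2 hsM) fun x hx => ?_⟩
    obtain ⟨c, -, hc⟩ := Submodule.mem_span_finset.1
      (show x ∈ Submodule.span B (s : Set (MvPolynomial ι B)) from hspan ▸ Submodule.subset_span hx)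
    rw [← avg_eq_self hα hx.1, ← hc, map_sum]
    refine Submodule.sum_mem _ fun y hy => ?_
    have : avg α (c y • y) = (⟨avg α (c y), avg_mem hα _⟩ : B₀) • y := by
      rw [Algebra.smul_def, MvPolynomial.algebraMap_eq, avg_mul_fixed α _ (hsM hy).1, Algebra.smul_def]
      congr 1
      exact (map_avg α hC (c y)).symm
    rw [this]
    exact Submodule.smul_mem _ _ (Submodule.subset_span hy)
  let N : Submodule B₀ (MvPolynomial ι B) :=
    Submodule.span B₀ (φ' '' {p | p ∈ HopfRep.fixedPts k H (MvPolynomial ι A) ∧ p.IsHomogeneous 1})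
  let J := RingHom.ker (GLin.orbitHom k H w)
  let m := pt (H := H) w
  let 𝔍 : Ideal (MvPolynomial ι B) := J.map MvPolynomial.C
  have h𝔍 : HopfRep.IsSubcomod (k := k) (A := H) (𝔍.restrictScalars k) := by
    intro y hy
    have hy' : y ∈ Submodule.span (MvPolynomial ι B) (MvPolynomial.C '' (J : Set B)) := hy
    clear hy
    induction hy' using Submodule.span_induction with
    | mem y hy =>
      obtain ⟨j, hj, rfl⟩ := hy
      have h1 := LinearMap.congr_fun hC j
      simp only [LinearMap.comp_apply, AlgHom.toLinearMap_apply, IsScalarTower.coe_toAlgHom',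
        MvPolynomial.algebraMap_eq] at h1
      rw [h1]
      obtain ⟨z, hz⟩ := orbit_ker_isSubcomod (H := H) w j hj
      rw [← hz]
      clear hz h1
      induction z using TensorProduct.induction_on with
      | zero => simp
      | add p q hp hq => rw [map_add, map_add]; exact add_mem hp hq
      | tmul p q => exact ⟨⟨MvPolynomial.C (p : B), Ideal.mem_map_of_mem _ p.2⟩ ⊗ₜ q, by simp⟩
    | zero => simp
    | add p q _ _ hp hq => rw [map_add]; exact add_mem hp hq
    | smul c p _ hp => rw [smul_eq_mul, GLin.IsCoactAlg.coact_mul]; exact mul_mem_range _ _ hp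
  obtain ⟨d, hd, hdtop⟩ := exists_pow_inter_le hα h𝔍
  have hkey : M₁ ≤ N ⊔ m • M₁ := by
    intro x hx
    choose c hc using fun i : ι => happ (d * 2) (x.coeff (Finsupp.single i 1))
    let p : MvPolynomial ι A := ∑ i, MvPolynomial.C (c i) * MvPolynomial.X i
    have hp : p.IsHomogeneous 1 := MvPolynomial.IsHomogeneous.sum _ _ _ fun i _ => by
      simpa using (MvPolynomial.isHomogeneous_C _ (c i)).mul (MvPolynomial.isHomogeneous_X A i)
    have hp' : (avg α p).IsHomogeneous 1 := by
      have := MvPolynomial.homogeneousComponent_isHomogeneous 1 (avg α p)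
      rwa [show MvPolynomial.homogeneousComponent 1 (avg α p) = avg α p from
        (map_avg α (isComodHom_comp hb 1) p).trans (by simp [MvPolynomial.homogeneousComponent_of_mem hp])] at this
    have hN : φ' (avg α p) ∈ N := Submodule.subset_span ⟨_, ⟨avg_mem hα p, hp'⟩, rfl⟩
    have hxsum : x = ∑ i, MvPolynomial.C (x.coeff (Finsupp.single i 1)) * MvPolynomial.X i := by
      ext s
      simp only [MvPolynomial.coeff_sum, MvPolynomial.coeff_C_mul, MvPolynomial.coeff_X', mul_ite, mul_one,
        mul_zero]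
      by_cases hs : s.degree = 1
      · obtain ⟨i, rfl⟩ := exists_single_of_degree s hs
        rw [Finset.sum_eq_single i] <;> simp +contextual [Finsupp.single_eq_single_iff]
      · rw [hx.2.coeff_eq_zero hs, eq_comm]
        refine Finset.sum_eq_zero fun i _ => if_neg fun e => hs ?_
        rw [← e, Finsupp.degree_single]
    have hd2 : x - φ' p ∈ 𝔍 ^ (d * 2) := by
      rw [hxsum]
      simp only [p, φ', map_sum, map_mul, MvPolynomial.mapAlgHom_apply, MvPolynomial.map_C, MvPolynomial.map_X,
        ← Finset.sum_sub_distrib, ← sub_mul, ← map_sub, 𝔍, ← Ideal.map_pow]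
      exact Ideal.sum_mem _ fun i _ => Ideal.mul_mem_right _ _ (Ideal.mem_map_of_mem _ (hc i))
    let y : GLin.invariants k H (MvPolynomial ι B) := ⟨avg α (x - φ' p), avg_mem hα _⟩
    have hy := hdtop 2 y (avg_mem_of_isSubcomod α (pow_isSubcomod h𝔍 _) hd2)
    have hyval : (y : MvPolynomial ι B) = x - φ' (avg α p) := by
      change avg α (x - φ' p) = _
      rw [map_sub, avg_eq_self hα hx.1]
      exact congrArg _ (map_avg α hφ' p).symm
    have hcoef : ∀ z : GLin.invariants k H (MvPolynomial ι B), (z : MvPolynomial ι B) ∈ 𝔍 →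
        ∃ e ∈ m, (e : B) = (z : MvPolynomial ι B).coeff 0 := by
      intro z hz
      have h0 := map_mem_fixedPts (isComodHom_comp (R := B) hb 0) z.2
      rw [LinearMap.coe_restrictScalars, MvPolynomial.homogeneousComponent_zero] at h0
      have hfix : (z : MvPolynomial ι B).coeff 0 ∈ HopfRep.fixedPts k H B := by
        have h1 := LinearMap.congr_fun hC ((z : MvPolynomial ι B).coeff 0)
        simp only [LinearMap.comp_apply, AlgHom.toLinearMap_apply, IsScalarTower.coe_toAlgHom',
          MvPolynomial.algebraMap_eq] at h1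
        rw [show HopfRep.Comod.coact (k := k) (A := H) (MvPolynomial.C _ : MvPolynomial ι B) = _ from h0] at h1
        have h2 := congrArg (((MvPolynomial.lcoeff B (0 : ι →₀ ℕ)).restrictScalars k).rTensor H) h1
        rw [← LinearMap.rTensor_comp_apply, show ((MvPolynomial.lcoeff B (0 : ι →₀ ℕ)).restrictScalars k) ∘ₗ
            (IsScalarTower.toAlgHom k B (MvPolynomial ι B)).toLinearMap = LinearMap.id from
            LinearMap.ext fun r => by simp, LinearMap.rTensor_id, LinearMap.id_apply] at h2
        change _ = _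
        rw [← h2]
        simp
      refine ⟨⟨_, hfix⟩, ?_, rfl⟩
      change (⟨_, hfix⟩ : B₀) ∈ pt (H := H) w
      rw [pt_eq]
      exact (MvPolynomial.mem_map_C_iff.1 hz) 0
    have hy1 : comp₁ (y : MvPolynomial ι B) ∈ m • M₁ := by
      rw [pow_two] at hy
      refine Submodule.mul_induction_on hy (fun a ha a' ha' => ?_) fun a a' ha ha' => ?_
      · change MvPolynomial.homogeneousComponent 1 ((a : MvPolynomial ι B) * (a' : MvPolynomial ι B)) ∈ _
        rw [comp_one_mul]
        have hc1 : ∀ z : GLin.invariants k H (MvPolynomial ι B),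
            MvPolynomial.homogeneousComponent 1 (z : MvPolynomial ι B) ∈ M₁ := fun z =>
          ⟨map_mem_fixedPts (isComodHom_comp (R := B) hb 1) z.2,
            MvPolynomial.homogeneousComponent_isHomogeneous _ _⟩
        obtain ⟨e, he, hee⟩ := hcoef a ha
        obtain ⟨e', he', hee'⟩ := hcoef a' ha'
        rw [← hee, ← hee']
        exact add_mem (Submodule.smul_mem_smul he (hc1 a') |> fun h => by simpa [Algebra.smul_def] using h)
          (Submodule.smul_mem_smul he' (hc1 a) |> fun h => by simpa [Algebra.smul_def] using h)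
      · change comp₁ ((a : MvPolynomial ι B) + a') ∈ _
        rw [map_add]; exact add_mem ha ha'
    have hy2 : comp₁ (y : MvPolynomial ι B) = x - φ' (avg α p) := by
      rw [hyval]
      simp only [comp₁, LinearMap.coe_restrictScalars]
      have : (x - φ' (avg α p)).IsHomogeneous 1 := hx.2.sub (hp'.map _)
      rw [MvPolynomial.homogeneousComponent_of_mem this, if_pos rfl]
    rw [hy2] at hy1
    rw [show x = φ' (avg α p) + (x - φ' (avg α p)) by ring]
    exact Submodule.add_mem_sup hN hy1
  obtain ⟨r, hr, hrN⟩ := Submodule.exists_sub_one_mem_and_smul_le_of_fg_of_le_sup hM₁ le_rfl hkey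
  refine ⟨r, t, fun h => ?_, ht, fun y hy => ?_⟩
  · have := sub_mem h hr
    rw [sub_sub_cancel] at this
    exact (pt (H := H) w).one_notMem this
  · have hΘ : Θ ∈ M₁ := ⟨hΘfix, MvPolynomial.IsHomogeneous.sum _ _ _ fun i _ => by
      simpa using (MvPolynomial.isHomogeneous_C _ (v i : B)).mul (MvPolynomial.isHomogeneous_X B i)⟩
    have hrΘ : r • Θ ∈ N := hrN (Submodule.smul_mem_pointwise_smul _ _ _ hΘ)
    have hcoef : ∀ z ∈ N, ∀ s, MvPolynomial.coeff s z ∈ Algebra.adjoin A (GLin.invariants k H B : Set B) := by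
      intro z hz
      induction hz using Submodule.span_induction with
      | mem z hz =>
        obtain ⟨p, -, rfl⟩ := hz
        intro s
        simp only [φ', MvPolynomial.mapAlgHom_apply, MvPolynomial.coeff_map]
        exact Subalgebra.algebraMap_mem _ _
      | zero => simp
      | add p q _ _ hp hq => intro s; rw [MvPolynomial.coeff_add]; exact add_mem (hp s) (hq s)
      | smul c p _ hp =>
        intro s
        rw [Algebra.smul_def, show algebraMap B₀ (MvPolynomial ι B) c = MvPolynomial.C (c : B) from rfl,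
          MvPolynomial.coeff_C_mul]
        exact mul_mem (Algebra.subset_adjoin c.2) (hp s)
    have hv : ∀ i, (r : B) * (v i : B) ∈ Algebra.adjoin A (GLin.invariants k H B : Set B) := fun i => by
      have := hcoef _ hrΘ (Finsupp.single i 1)
      rwa [Algebra.smul_def, show algebraMap B₀ (MvPolynomial ι B) r = MvPolynomial.C (r : B) from rfl,
        MvPolynomial.coeff_C_mul, show Θ.coeff (Finsupp.single i 1) = (v i : B) by
          simp [Θ, MvPolynomial.coeff_sum, MvPolynomial.coeff_X', Finsupp.single_eq_single_iff]] at this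
    have h1 := congrArg (fun u : U => (u : B)) (v.sum_repr ⟨y, htU hy⟩)
    simp only [Submodule.coe_sum, Submodule.coe_smul] at h1
    rw [← h1, Finset.mul_sum]
    refine sum_mem fun i _ => ?_
    rw [Algebra.mul_smul_comm, Algebra.smul_def, IsScalarTower.algebraMap_apply k A B]
    exact mul_mem (Subalgebra.algebraMap_mem _ _) (hv i)

end Groth.Agent.Comod.LunaGen
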