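import Groth.Agent.Comod.LunaGen.Basic
import Mathlib.RingTheory.Unramified.Finite
import Mathlib.RingTheory.Smooth.Basic
import Mathlib.RingTheory.Etale.Basic
import Mathlib.RingTheory.LocalRing.ResidueField.Fiber
import Mathlib.RingTheory.Spectrum.Prime.Topology
import Mathlib.RingTheory.Flat.FaithfullyFlat.Basic

/-!
# Luna's fundamental lemma over any field: the two orbits coincide
-/

set_option autoImplicit false
set_option linter.unusedSectionVars false
set_option linter.style.haveILetI false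

universe u v w w'

noncomputable section

open TensorProduct

namespace Groth.Agent.Comod.LunaGen

variable {k : Type u} [Field k] {H : Type v} [CommRing H] [HopfAlgebra k H]
variable {A : Type w} [CommRing A] [Algebra k A] [HopfRep.Comod k H A] [GLin.IsCoactAlg k H A]
variable {B : Type w} [CommRing B] [Algebra k B] [HopfRep.Comod k H B] [GLin.IsCoactAlg k H B]

theorem exists_prime_over (x : A →ₐ[k] k) (hx : GLin.IsClosedOrbit k H x) (P : Ideal A) [P.IsPrime]
    (hP : RingHom.ker (GLin.orbitHom k H x) ≤ P) :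
    ∃ q : Ideal H, q.IsPrime ∧ q.comap (GLin.orbitHom k H x).toRingHom = P := by
  have h : (⟨P, ‹_›⟩ : PrimeSpectrum A) ∈ closure (Set.range (PrimeSpectrum.comap (GLin.orbitHom k H x).toRingHom)) := by
    rw [PrimeSpectrum.closure_range_comap, PrimeSpectrum.mem_zeroLocus, SetLike.coe_subset_coe]
    exact hP
  obtain ⟨q, hq⟩ := (hx : IsClosed _).closure_subset h
  exact ⟨q.asIdeal, q.isPrime, congrArg PrimeSpectrum.asIdeal hq⟩

/-- a closed orbit has no stable closed subsets -/
theorem eq_top_of_not_le (x : A →ₐ[k] k) (hx : GLin.IsClosedOrbit k H x) {𝔞 : Ideal A}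
    (hle : RingHom.ker (GLin.orbitHom k H x) ≤ 𝔞)
    (h𝔞 : HopfRep.IsSubcomod (k := k) (A := H) (𝔞.restrictScalars k))
    (hne : ¬𝔞 ≤ RingHom.ker (GLin.orbitHom k H x)) : 𝔞 = ⊤ := by
  by_contra htop
  obtain ⟨P, hP, hPle⟩ := Ideal.exists_le_maximal 𝔞 htop
  obtain ⟨q, hq, hqP⟩ := exists_prime_over x hx P (hle.trans hPle)
  let o := GLin.orbitHom k H x
  let g : H →ₐ[k] H ⧸ q := Ideal.Quotient.mkₐ k q
  have hg : ∀ a ∈ 𝔞, g (o a) = 0 := fun a ha => by
    refine Ideal.Quotient.eq_zero_iff_mem.2 ?_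
    have : a ∈ P := hPle ha
    rw [← hqP] at this
    exact this
  have hx0 : ∀ a ∈ 𝔞, x a = 0 := by
    intro a ha
    let Ψ : H ⊗[k] H →ₗ[k] H ⧸ q := g.toLinearMap ∘ₗ LinearMap.mul' k H ∘ₗ (HopfAlgebra.antipode k).lTensor H
    have h1 : Ψ (Coalgebra.comul (R := k) (o a)) = algebraMap k (H ⧸ q) (x a) := by
      simp only [Ψ, LinearMap.comp_apply, HopfAlgebra.mul_antipode_lTensor_comul_apply]
      rw [AlgHom.toLinearMap_apply, AlgHom.commutes, counit_orbitHom]
    obtain ⟨t, ht⟩ := h𝔞 a ha
    rw [comul_orbitHom, ← ht] at h1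
    have h2 : Ψ (o.toLinearMap.rTensor H ((𝔞.restrictScalars k).subtype.rTensor H t)) = 0 := by
      clear ht h1
      induction t using TensorProduct.induction_on with
      | zero => simp
      | add y z hy hz => simp only [map_add, hy, hz, add_zero]
      | tmul y c => simp [Ψ, hg _ y.2]
    rw [h2] at h1
    exact (map_eq_zero_iff _ (algebraMap k (H ⧸ q)).injective).1 h1.symm
  refine hne fun a ha => ?_
  rw [RingHom.mem_ker, orbitHom_apply_eq]
  obtain ⟨t, ht⟩ := h𝔞 a ha
  rw [← ht]
  clear ht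
  induction t using TensorProduct.induction_on with
  | zero => simp
  | add y z hy hz => simp only [map_add, hy, hz, add_zero]
  | tmul y c => simp [hx0 _ y.2]

theorem conv_orbitHom {S : Type w} [CommRing S] [Algebra k S] [HopfRep.Comod k H S] [GLin.IsCoactAlg k H S]
    {Ω : Type w'} [CommRing Ω] [Algebra k Ω] (g₁ g₂ : H →ₐ[k] Ω) (x : S →ₐ[k] k) (s : S) :
    (Algebra.TensorProduct.productMap g₂ g₁).comp (Bialgebra.comulAlgHom k H) (GLin.orbitHom k H x s) =
      Algebra.TensorProduct.productMap (g₂.comp (GLin.orbitHom k H x)) g₁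
        (HopfRep.Comod.coact (k := k) (A := H) s) := by
  rw [AlgHom.comp_apply, Bialgebra.comulAlgHom_apply, comul_orbitHom]
  induction HopfRep.Comod.coact (k := k) (A := H) s using TensorProduct.induction_on with
  | zero => simp
  | add y z hy hz => simp only [map_add, hy, hz]
  | tmul y z => simp

/-- points of the group with equal images on the orbit of `φ w` have equal images on the orbit of `w` -/
theorem orbit_point_eq {φ : A →ₐ[k] B} (hφ : Hoch.IsComodHom H φ.toLinearMap) (w : B →ₐ[k] k)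
    (hst : GLin.stabIdeal k H (w.comp φ) = GLin.stabIdeal k H w)
    {Ω : Type w'} [CommRing Ω] [Algebra k Ω] (g₁ g₂ : H →ₐ[k] Ω)
    (h : ∀ a, g₁ (GLin.orbitHom k H w (φ a)) = g₂ (GLin.orbitHom k H w (φ a))) (b : B) :
    g₁ (GLin.orbitHom k H w b) = g₂ (GLin.orbitHom k H w b) := by
  let g₁' : H →ₐ[k] Ω := g₁.comp (HopfAlgebra.antipodeAlgHom k H)
  let c : H →ₐ[k] Ω :=
    (Algebra.TensorProduct.productMap g₂ g₁').comp
      (Bialgebra.comulAlgHom k H)
  have hinv : ∀ z : H, g₁ (LinearMap.mul' k H ((HopfAlgebra.antipode k).lTensor H (Coalgebra.comul (R := k) z))) =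
      algebraMap k Ω (Coalgebra.counit (R := k) z) := fun z => by
    rw [HopfAlgebra.mul_antipode_lTensor_comul_apply, AlgHom.commutes]
  have hcA : ∀ a : A, c (GLin.orbitHom k H (w.comp φ) a) = algebraMap k Ω (w (φ a)) := by
    intro a
    have hcu : Coalgebra.counit (R := k) (GLin.orbitHom k H (w.comp φ) a) = w (φ a) :=
      counit_orbitHom (A := H) (w.comp φ) a
    rw [← hcu, ← hinv, comul_orbitHom]
    refine (conv_orbitHom g₁' g₂ (w.comp φ) a).trans ?_
    induction HopfRep.Comod.coact (k := k) (A := H) a using TensorProduct.induction_on with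
    | zero => simp
    | add y z hy hz => simp only [map_add, hy, hz]
    | tmul y z => simp [g₁', ← orbitHom_comp hφ, h]
  have hle : GLin.stabIdeal k H w ≤ RingHom.ker c := by
    rw [← hst, GLin.stabIdeal, Ideal.map_le_iff_le_comap]
    intro a ha
    rw [Ideal.mem_comap, RingHom.mem_ker, hcA, show w (φ a) = 0 from ha, map_zero]
  have hcB : ∀ b : B, c (GLin.orbitHom k H w b) = algebraMap k Ω (w b) := by
    intro b
    have : b - algebraMap k B (w b) ∈ RingHom.ker w := by simp
    have h1 : c (GLin.orbitHom k H w (b - algebraMap k B (w b))) = 0 :=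
      hle (Ideal.mem_map_of_mem _ this)
    rwa [map_sub, map_sub, AlgHom.commutes, AlgHom.commutes, sub_eq_zero] at h1
  let Ψ : B ⊗[k] (H ⊗[k] H) →ₗ[k] Ω := LinearMap.mul' k Ω ∘ₗ TensorProduct.map
    (g₂.comp (GLin.orbitHom k H w)).toLinearMap
    (g₁.toLinearMap ∘ₗ LinearMap.mul' k H ∘ₗ (HopfAlgebra.antipode k).rTensor H)
  have e1 : Ψ (TensorProduct.assoc k B H H ((HopfRep.Comod.coact (k := k) (A := H) (V := B)).rTensor H
      (HopfRep.Comod.coact (k := k) (A := H) b))) = g₁ (GLin.orbitHom k H w b) := by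
    rw [orbitHom_apply_eq w b]
    induction HopfRep.Comod.coact (k := k) (A := H) b using TensorProduct.induction_on with
    | zero => simp
    | add y z hy hz => simp only [map_add, hy, hz]
    | tmul y z =>
      simp only [LinearMap.rTensor_tmul, TensorProduct.lid_tmul, AlgHom.toLinearMap_apply,
        Algebra.smul_def (w y)]
      rw [map_mul, AlgHom.commutes, ← hcB]
      rw [show c (GLin.orbitHom k H w y) = _ from conv_orbitHom g₁' g₂ w y]
      induction HopfRep.Comod.coact (k := k) (A := H) y using TensorProduct.induction_on with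
      | zero => simp
      | add p q hp hq => simp only [map_add, TensorProduct.add_tmul, add_mul, hp, hq]
      | tmul p q => simp [Ψ, g₁', mul_assoc]
  have e2 : Ψ ((CoalgebraStruct.comul (R := k) (A := H)).lTensor B (HopfRep.Comod.coact (k := k) (A := H) b)) =
      g₂ (GLin.orbitHom k H w b) := by
    have hcu := LinearMap.congr_fun (HopfRep.Comod.counit_comp (k := k) (A := H) (V := B)) b
    simp only [LinearMap.comp_apply, LinearMap.flip_apply, TensorProduct.mk_apply] at hcu
    conv_rhs => rw [show b = TensorProduct.rid k B (b ⊗ₜ[k] (1 : k)) by simp, ← hcu]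
    induction HopfRep.Comod.coact (k := k) (A := H) b using TensorProduct.induction_on with
    | zero => simp
    | add y z hy hz => simp only [map_add, hy, hz]
    | tmul y z => simp [Ψ, HopfAlgebra.mul_antipode_rTensor_comul_apply, Algebra.smul_def, mul_comm]
  have h0 := LinearMap.congr_fun (HopfRep.Comod.coassoc (k := k) (A := H) (V := B)) b
  simp only [LinearMap.comp_apply, LinearEquiv.coe_coe] at h0
  rw [← e1, h0, e2]

/-- a point of a closed orbit lifts to the group after a field extension -/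
theorem exists_ext_point (x : B →ₐ[k] k) (hx : GLin.IsClosedOrbit k H x) {Ω : Type w'} [Field Ω] (p : B →+* Ω)
    (hp : RingHom.ker (GLin.orbitHom k H x) ≤ RingHom.ker p) :
    ∃ (Ω' : Type (max v w')) (_ : Field Ω') (i : Ω →+* Ω') (g : H →+* Ω'),
      ∀ b, g (GLin.orbitHom k H x b) = i (p b) := by
  haveI hP : (RingHom.ker p).IsPrime := RingHom.ker_isPrime p
  obtain ⟨q, hq, hqP⟩ := exists_prime_over x hx (RingHom.ker p) hp
  let P := RingHom.ker p
  let o := (GLin.orbitHom k H x).toRingHom
  have h1 : P ≤ RingHom.ker ((algebraMap H q.ResidueField).comp o) := fun b hb => by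
    rw [RingHom.mem_ker, RingHom.comp_apply, Ideal.algebraMap_residueField_eq_zero]
    exact (Ideal.mem_comap).1 (hqP ▸ hb)
  have h2 : P.primeCompl ≤ (IsUnit.submonoid q.ResidueField).comap ((algebraMap H q.ResidueField).comp o) := by
    intro b hb
    refine IsUnit.mk0 _ fun h => hb ?_
    rw [RingHom.comp_apply, Ideal.algebraMap_residueField_eq_zero] at h
    rw [SetLike.mem_coe]
    show b ∈ RingHom.ker p
    rw [← hqP]
    exact Ideal.mem_comap.2 h
  letI := (Ideal.ResidueField.lift P _ h1 h2).toAlgebra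
  have h3 : P.primeCompl ≤ (IsUnit.submonoid Ω).comap p := fun b hb => IsUnit.mk0 _ hb
  letI := (Ideal.ResidueField.lift P p le_rfl h3).toAlgebra
  let T := q.ResidueField ⊗[P.ResidueField] Ω
  obtain ⟨M, hM⟩ := Ideal.exists_maximal T
  letI := Ideal.Quotient.field M
  refine ⟨T ⧸ M, inferInstance, (Ideal.Quotient.mk M).comp Algebra.TensorProduct.includeRight.toRingHom,
    ((Ideal.Quotient.mk M).comp Algebra.TensorProduct.includeLeftRingHom).comp (algebraMap H q.ResidueField),
    fun b => ?_⟩
  simp only [RingHom.comp_apply, AlgHom.toRingHom_eq_coe, RingHom.coe_coe,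
    Algebra.TensorProduct.includeLeftRingHom_apply, Algebra.TensorProduct.includeRight_apply]
  refine congrArg _ ?_
  rw [show algebraMap H q.ResidueField (GLin.orbitHom k H x b) =
      algebraMap P.ResidueField q.ResidueField (algebraMap B P.ResidueField b) from
      (Ideal.ResidueField.lift_algebraMap P _ h1 h2 b).symm,
    show p b = algebraMap P.ResidueField Ω (algebraMap B P.ResidueField b) from
      (Ideal.ResidueField.lift_algebraMap P p le_rfl h3 b).symm,
    Algebra.TensorProduct.includeLeftRingHom_apply]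
  generalize algebraMap B P.ResidueField b = c
  rw [Algebra.algebraMap_eq_smul_one, Algebra.algebraMap_eq_smul_one, TensorProduct.smul_tmul]

/-- two points on the orbit of `w` over the same point of the orbit of `φ w` are equal -/
theorem point_eq {φ : A →ₐ[k] B} (hφ : Hoch.IsComodHom H φ.toLinearMap) (w : B →ₐ[k] k)
    (hw : GLin.IsClosedOrbit k H w) (hst : GLin.stabIdeal k H (w.comp φ) = GLin.stabIdeal k H w)
    {Ω : Type w'} [Field Ω] (p₁ p₂ : B →+* Ω) (hp₁ : RingHom.ker (GLin.orbitHom k H w) ≤ RingHom.ker p₁)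
    (hp₂ : RingHom.ker (GLin.orbitHom k H w) ≤ RingHom.ker p₂) (h : ∀ a, p₁ (φ a) = p₂ (φ a)) (b : B) :
    p₁ b = p₂ b := by
  obtain ⟨Ω₁, _, i₁, g₁, hg₁⟩ := exists_ext_point w hw p₁ hp₁
  obtain ⟨Ω₂, _, i₂, g₂, hg₂⟩ := exists_ext_point w hw (i₁.comp p₂)
    (fun z hz => by simp [RingHom.mem_ker.1 (hp₂ hz)])
  letI : Algebra k Ω₂ := (g₂.comp (algebraMap k H)).toAlgebra
  have hk : ∀ c : k, i₂ (g₁ (algebraMap k H c)) = g₂ (algebraMap k H c) := fun c => by
    have e : algebraMap k H c = GLin.orbitHom k H w (φ (algebraMap k A c)) := by simp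
    rw [e, hg₁, hg₂, RingHom.comp_apply, h]
  let G₁ : H →ₐ[k] Ω₂ := { i₂.comp g₁ with commutes' := hk }
  let G₂ : H →ₐ[k] Ω₂ := { g₂ with commutes' := fun c => rfl }
  have h1 := orbit_point_eq hφ w hst G₁ G₂ (fun a => by
    change i₂ (g₁ _) = g₂ _
    rw [hg₁, hg₂, RingHom.comp_apply, h]) b
  change i₂ (g₁ _) = g₂ _ at h1
  rw [hg₁, hg₂, RingHom.comp_apply] at h1
  exact i₁.injective (i₂.injective h1)

theorem mem_range_of_one_tmul_eq {κ : Type*} [Field κ] {T : Type*} [CommRing T] [Algebra κ T] (s : T)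
    (h : (1 : T) ⊗ₜ[κ] s = s ⊗ₜ[κ] (1 : T)) : ∃ c : κ, algebraMap κ T c = s := by
  rcases subsingleton_or_nontrivial T with hT | hT
  · exact ⟨0, Subsingleton.elim _ _⟩
  · obtain ⟨f, hf⟩ := LinearMap.exists_leftInverse_of_injective (Algebra.linearMap κ T)
      (LinearMap.ker_eq_bot.2 (algebraMap κ T).injective)
    have h1 := congrArg (fun z => TensorProduct.lid κ T (f.rTensor T z)) h
    simp only [LinearMap.rTensor_tmul, TensorProduct.lid_tmul] at h1
    refine ⟨f s, ?_⟩
    rw [Algebra.algebraMap_eq_smul_one, ← h1, show f 1 = 1 by simpa using LinearMap.congr_fun hf 1, one_smul]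

theorem exists_smul_mem_of_one_tmul_eq_zero {R₀ : Type*} [CommRing R₀] {S₀ : Type*} [CommRing S₀] [Algebra R₀ S₀]
    (η : Ideal R₀) [η.IsPrime] {z : S₀} (h : (1 : η.ResidueField) ⊗ₜ[R₀] z = 0) :
    ∃ s ∉ η, s • z ∈ η.map (algebraMap R₀ S₀) := by
  let S₁ := Localization (Algebra.algebraMapSubmonoid (S₀ ⧸ η.map (algebraMap R₀ S₀)) η.primeCompl)
  let f : η.ResidueField →ₐ[R₀] S₁ := Ideal.ResidueField.liftₐ η (Algebra.ofId R₀ S₁)
    (fun x hx => by
      change algebraMap R₀ S₁ x = 0
      rw [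
        IsScalarTower.algebraMap_apply R₀ (S₀ ⧸ η.map (algebraMap R₀ S₀)) S₁, show algebraMap R₀ (S₀ ⧸ η.map (algebraMap R₀ S₀)) x = 0 from
          Ideal.Quotient.eq_zero_iff_mem.2 (Ideal.mem_map_of_mem _ hx), map_zero])
    (fun x hx => by
      change IsUnit (algebraMap R₀ S₁ x)
      rw [IsScalarTower.algebraMap_apply R₀ (S₀ ⧸ η.map (algebraMap R₀ S₀)) S₁]
      exact IsLocalization.map_units S₁
        (⟨_, x, hx, rfl⟩ : Algebra.algebraMapSubmonoid (S₀ ⧸ η.map (algebraMap R₀ S₀)) η.primeCompl))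
  let F : η.ResidueField ⊗[R₀] S₀ →ₐ[R₀] S₁ :=
    Algebra.TensorProduct.lift f (IsScalarTower.toAlgHom R₀ S₀ S₁) fun _ _ => Commute.all _ _
  have h1 : algebraMap (S₀ ⧸ η.map (algebraMap R₀ S₀)) S₁ (Ideal.Quotient.mk _ z) = 0 := by
    have := congrArg F h
    simpa [F, IsScalarTower.algebraMap_apply S₀ (S₀ ⧸ η.map (algebraMap R₀ S₀)) S₁] using this
  obtain ⟨⟨_, s, hs, rfl⟩, hz⟩ := (IsLocalization.map_eq_zero_iff
    (Algebra.algebraMapSubmonoid (S₀ ⧸ η.map (algebraMap R₀ S₀)) η.primeCompl) S₁ _).1 h1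
  refine ⟨s, hs, ?_⟩
  rw [← Ideal.Quotient.eq_zero_iff_mem, Algebra.smul_def, map_mul]
  exact hz

/-- the two orbits coincide -/
theorem exists_sub_mem_ker [IsNoetherianRing A] {φ : A →ₐ[k] B} (hφ : Hoch.IsComodHom H φ.toLinearMap)
    (het : φ.toRingHom.Etale) (w : B →ₐ[k] k) (hw : GLin.IsClosedOrbit k H w)
    (hφw : GLin.IsClosedOrbit k H (w.comp φ))
    (hst : GLin.stabIdeal k H (w.comp φ) = GLin.stabIdeal k H w) (b : B) :
    ∃ a : A, b - φ a ∈ RingHom.ker (GLin.orbitHom k H w) := by
  classical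
  let I := RingHom.ker (GLin.orbitHom k H (w.comp φ))
  let J := RingHom.ker (GLin.orbitHom k H w)
  have hIJ : ∀ a, a ∈ I → φ a ∈ J := fun a ha => by
    change GLin.orbitHom k H w (φ a) = 0
    rw [orbitHom_comp hφ]; exact ha
  have hIne : I ≠ ⊤ := fun h => by
    have : GLin.orbitHom k H (w.comp φ) 1 = 0 := RingHom.mem_ker.1 ((Ideal.eq_top_iff_one I).1 h)
    rw [map_one] at this
    have := congrArg (Coalgebra.counit (R := k)) this
    simp at this
  letI : Algebra A B := φ.toRingHom.toAlgebra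
  haveI : Algebra.Etale A B := het
  -- a minimal prime
  obtain ⟨η, hη⟩ := I.nonempty_minimalPrimes hIne
  haveI : η.IsPrime := hη.1.1
  obtain ⟨t, htη, htN⟩ : ∃ t ∉ η, ∀ e ∈ η, t * e ∈ I.radical := by
    have hfin := I.finite_minimalPrimes_of_isNoetherianRing A
    let S := hfin.toFinset.erase η
    have : ¬ S.inf id ≤ η := fun h => by
      obtain ⟨p, hp, hpη⟩ := (Ideal.IsPrime.inf_le' ‹η.IsPrime›).1 h
      obtain ⟨hne, hp⟩ := Finset.mem_erase.1 hp
      have hp := hfin.mem_toFinset.1 hp
      exact hne (le_antisymm hpη (hη.2 ⟨hp.1.1, hp.1.2⟩ hpη))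
    obtain ⟨t, ht, htη⟩ := SetLike.not_le_iff_exists.1 this
    refine ⟨t, htη, fun e he => ?_⟩
    rw [← I.sInf_minimalPrimes]
    refine Submodule.mem_sInf.2 fun p hp => ?_
    by_cases hpe : p = η
    · exact hpe ▸ η.mul_mem_left t he
    · exact Ideal.mul_mem_right e p ((Finset.inf_le (f := id)
        (Finset.mem_erase.2 ⟨hpe, hfin.mem_toFinset.2 hp⟩)) ht)
  obtain ⟨N, hN⟩ := I.exists_radical_pow_le_of_fg (IsNoetherian.noetherian _)
  have hηN : ∀ e ∈ η ^ N, t ^ N * e ∈ I := fun e he => by
    refine hN ?_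
    have h1 : Ideal.span {t} * η ≤ I.radical := Ideal.span_singleton_mul_le_iff.2 htN
    refine Ideal.pow_right_mono h1 N ?_
    rw [mul_pow, Ideal.span_singleton_pow]
    exact Ideal.mul_mem_mul (Ideal.mem_span_singleton_self _) he
  -- the fibre over the minimal prime
  let T := η.ResidueField ⊗[A] (B ⧸ J)
  haveI : Algebra.FormallyUnramified A (B ⧸ J) :=
    Algebra.FormallyUnramified.of_surjective (Ideal.Quotient.mkₐ A J) Ideal.Quotient.mk_surjective
  haveI : Algebra.FiniteType A (B ⧸ J) :=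
    Algebra.FiniteType.of_surjective (Ideal.Quotient.mkₐ A J) Ideal.Quotient.mk_surjective
  have hT : ∀ s : T, (1 : T) ⊗ₜ[η.ResidueField] s = s ⊗ₜ[η.ResidueField] (1 : T) := by
    obtain ⟨e, he, hμ⟩ := (Algebra.FormallyUnramified.iff_exists_tensorProduct (R := η.ResidueField) (S := T)).1
      inferInstance
    have hu : IsUnit e := by
      by_contra hne
      obtain ⟨M, hM, heM⟩ := exists_max_ideal_of_mem_nonunits hne
      letI := Ideal.Quotient.field M
      let χ := Ideal.Quotient.mkₐ η.ResidueField M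
      let χ₁ := χ.comp (Algebra.TensorProduct.includeLeft : T →ₐ[η.ResidueField] T ⊗[η.ResidueField] T)
      let χ₂ := χ.comp (Algebra.TensorProduct.includeRight : T →ₐ[η.ResidueField] T ⊗[η.ResidueField] T)
      have h12 : χ₁ = χ₂ := by
        refine Algebra.TensorProduct.ext (Subsingleton.elim _ _) ?_
        let i : B →+* T := (Algebra.TensorProduct.includeRight.toRingHom).comp (Ideal.Quotient.mk J)
        have hi : J ≤ RingHom.ker i := fun z hz => by
          simp [i, Ideal.Quotient.eq_zero_iff_mem.2 hz]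
        have key := point_eq hφ w hw hst (χ₁.toRingHom.comp i) (χ₂.toRingHom.comp i)
          (hi.trans fun z hz => by simp [RingHom.mem_ker.1 hz]) (hi.trans fun z hz => by simp [RingHom.mem_ker.1 hz])
          (fun a => by
            have : i (φ a) = algebraMap η.ResidueField T (algebraMap A η.ResidueField a) :=
              (Algebra.TensorProduct.includeRight : B ⧸ J →ₐ[A] T).commutes a
            simp only [RingHom.comp_apply, this, AlgHom.toRingHom_eq_coe, RingHom.coe_coe, AlgHom.commutes])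
        refine AlgHom.ext fun z => ?_
        obtain ⟨z, rfl⟩ := Ideal.Quotient.mk_surjective z
        exact key z
      have hχ : ∀ z, χ z = χ₁ (Algebra.TensorProduct.lmul' η.ResidueField z) := by
        intro z
        induction z using TensorProduct.induction_on with
        | zero => simp
        | add y z hy hz => simp only [map_add, hy, hz]
        | tmul y z =>
          rw [Algebra.TensorProduct.lmul'_apply_tmul, map_mul]
          conv_rhs => arg 2; rw [h12]
          simp [χ₁, χ₂, ← map_mul]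
      have := hχ e
      rw [hμ, map_one, show χ e = 0 from Ideal.Quotient.eq_zero_iff_mem.2 heM] at this
      exact zero_ne_one this
    exact fun s => sub_eq_zero.1 ((IsUnit.mul_left_eq_zero hu).1 (he s))
  -- generated by one up to a denominator
  let Good : ℕ → (B ⧸ J) → Prop := fun n z => ∃ s ∉ η, ∃ a : A,
    s • z - algebraMap A (B ⧸ J) a ∈ (η ^ n • ⊤ : Submodule A (B ⧸ J))
  have h1 : ∀ z, Good 1 z := by
    intro z
    obtain ⟨c, hc⟩ := mem_range_of_one_tmul_eq _ (hT ((1 : η.ResidueField) ⊗ₜ[A] z))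
    obtain ⟨⟨a, d⟩, had⟩ := IsLocalization.surj η.primeCompl (R := A) (S := Localization.AtPrime η)
      (IsLocalRing.residue_surjective c).choose
    have hd : c * algebraMap A η.ResidueField d = algebraMap A η.ResidueField a := by
      rw [← (IsLocalRing.residue_surjective c).choose_spec]
      have := congrArg (IsLocalRing.residue (Localization.AtPrime η)) had
      rwa [map_mul] at this
    have h0 : (1 : η.ResidueField) ⊗ₜ[A] ((d : A) • z - algebraMap A (B ⧸ J) a) = 0 := by
      rw [TensorProduct.tmul_sub, TensorProduct.tmul_smul, ← hc,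
        Algebra.TensorProduct.algebraMap_apply, Algebra.algebraMap_self, RingHom.id_apply,
        Algebra.algebraMap_eq_smul_one (A := B ⧸ J), TensorProduct.tmul_smul,
        TensorProduct.smul_tmul', TensorProduct.smul_tmul', Algebra.smul_def, Algebra.smul_def,
        mul_one, mul_comm, hd, sub_self]
    obtain ⟨s, hs, hmem⟩ := exists_smul_mem_of_one_tmul_eq_zero η h0
    refine ⟨s * d, η.primeCompl.mul_mem hs d.2, s * a, ?_⟩
    rw [pow_one, Ideal.smul_top_eq_map, Submodule.restrictScalars_mem]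
    convert hmem using 1
    rw [smul_sub, smul_smul, map_mul, Algebra.smul_def s (algebraMap A (B ⧸ J) a)]
  have hstep : ∀ n, 1 ≤ n → ∀ z, Good n z := by
    intro n hn
    induction n, hn using Nat.le_induction with
    | base => exact h1
    | succ n _ ih =>
      have hS : ∀ m ∈ (η ^ n • ⊤ : Submodule A (B ⧸ J)), Good (n + 1) m := by
        intro m hm
        refine Submodule.smul_induction_on hm (fun e he z _ => ?_) fun y z hy hz => ?_
        · obtain ⟨s, hs, a, ha⟩ := h1 z
          refine ⟨s, hs, e * a, ?_⟩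
          rw [map_mul, ← Algebra.smul_def, smul_comm, ← smul_sub, pow_succ, Submodule.mul_smul]
          exact Submodule.smul_mem_smul he (by rwa [pow_one] at ha)
        · obtain ⟨s, hs, a, ha⟩ := hy
          obtain ⟨s', hs', a', ha'⟩ := hz
          refine ⟨s * s', η.primeCompl.mul_mem hs hs', s' * a + s * a', ?_⟩
          have := add_mem (Submodule.smul_mem _ s' ha) (Submodule.smul_mem _ s ha')
          convert this using 1
          simp only [map_add, map_mul, Algebra.smul_def]
          ring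
      intro z
      obtain ⟨s, hs, a, ha⟩ := ih z
      obtain ⟨s', hs', a', ha'⟩ := hS _ ha
      refine ⟨s' * s, η.primeCompl.mul_mem hs' hs, s' * a + a', ?_⟩
      convert ha' using 1
      simp only [map_add, map_mul, Algebra.smul_def]
      ring
  -- the conductor
  obtain ⟨U, hUfin, hbU, hU⟩ := exists_finite_subcomod (k := k) (A := H) ({b} : Finset B)
  let M : Submodule k B := LinearMap.range φ.toLinearMap ⊔ J.restrictScalars k
  have hM : HopfRep.IsSubcomod (k := k) (A := H) M :=
    isSubcomod_sup (isSubcomod_range hφ) (orbit_ker_isSubcomod w)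
  let Q : Submodule k B :=
    { carrier := {r | ∀ y ∈ U, r * y ∈ M}
      zero_mem' := fun y _ => by simp
      add_mem' := fun {p q} hp hq y hy => by rw [add_mul]; exact M.add_mem (hp y hy) (hq y hy)
      smul_mem' := fun c p hp y hy => by rw [Algebra.smul_mul_assoc]; exact M.smul_mem c (hp y hy) }
  have hmulM : ∀ (a : A) {z : B}, z ∈ M → φ a * z ∈ M := by
    intro a z hz
    obtain ⟨_, ⟨y, rfl⟩, j, hj, rfl⟩ := Submodule.mem_sup.1 hz
    rw [mul_add]
    exact Submodule.add_mem_sup ⟨a * y, map_mul φ a y⟩ (J.mul_mem_left _ hj)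
  let C : Ideal A :=
    { carrier := {a | φ a ∈ Q}
      zero_mem' := by simp only [Set.mem_ofPred_eq, map_zero]; exact Q.zero_mem
      add_mem' := fun {p q} hp hq => by simp only [Set.mem_ofPred_eq, map_add]; exact Q.add_mem hp hq
      smul_mem' := fun c p hp y hy => by rw [smul_eq_mul, map_mul, mul_assoc]; exact hmulM c (hp y hy) }
  have hC : HopfRep.IsSubcomod (k := k) (A := H) (C.restrictScalars k) :=
    isSubcomod_comap hφ (colon_isSubcomod hU hM Q fun r => Iff.rfl)
  have hIC : I ≤ C := fun a ha y _ => Submodule.mem_sup_right (J.mul_mem_right y (hIJ a ha))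
  have hex : ∀ y : B, ∃ s ∉ η, ∀ c : A, c ∈ Ideal.span {s} → φ c * y ∈ M := by
    intro y
    obtain ⟨s, hs, a, ha⟩ := hstep (max N 1) (le_max_right _ _) (Ideal.Quotient.mk J y)
    have hkill : ∀ m ∈ (η ^ max N 1 • ⊤ : Submodule A (B ⧸ J)), t ^ N • m = 0 := by
      intro m hm
      refine Submodule.smul_induction_on hm (fun e he z _ => ?_) fun y z hy hz => ?_
      · have := hηN e (Ideal.pow_le_pow_right (le_max_left _ _) he)
        rw [smul_smul, Algebra.smul_def, show algebraMap A (B ⧸ J) (t ^ N * e) = 0 from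
          Ideal.Quotient.eq_zero_iff_mem.2 (hIJ _ this), zero_mul]
      · rw [smul_add, hy, hz, add_zero]
    refine ⟨t ^ N * s, η.primeCompl.mul_mem (η.primeCompl.pow_mem htη N) hs, fun c hc => ?_⟩
    obtain ⟨d, rfl⟩ := Ideal.mem_span_singleton'.1 hc
    rw [map_mul, mul_assoc]
    refine hmulM d ?_
    have h2 := hkill _ ha
    rw [smul_sub, smul_smul, sub_eq_zero, Algebra.smul_def, Algebra.smul_def, ← map_mul] at h2
    have h3 : φ (t ^ N * s) * y - φ (t ^ N * a) ∈ J := Ideal.Quotient.eq.1 h2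
    rw [← add_sub_cancel (φ (t ^ N * a)) (φ (t ^ N * s) * y)]
    exact Submodule.add_mem_sup ⟨_, rfl⟩ h3
  choose s hs hsM using hex
  have hUfg : U.FG := (Submodule.fg_top U).1 (Module.finite_def.1 hUfin)
  obtain ⟨G, hG⟩ := hUfg
  have hCne : ∃ c ∈ C, c ∉ I := by
    refine ⟨∏ y ∈ G, s y, ?_, fun h => ?_⟩
    · intro y hy
      rw [← hG] at hy
      induction hy using Submodule.span_induction with
      | mem y hy =>
        exact hsM y _ (Ideal.mem_span_singleton.2 (Finset.dvd_prod_of_mem s hy))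
      | zero => simp
      | add p q _ _ hp hq => rw [mul_add]; exact M.add_mem hp hq
      | smul c p _ hp => rw [Algebra.mul_smul_comm]; exact M.smul_mem c hp
    · exact (η.primeCompl.prod_mem fun y _ => hs y) (hη.1.2 h)
  obtain ⟨c, hc, hcI⟩ := hCne
  have htop := eq_top_of_not_le (w.comp φ) hφw hIC hC fun h => hcI (h hc)
  have h1C : (1 : A) ∈ C := htop ▸ Submodule.mem_top
  have hb := h1C b (hbU (by simp))
  rw [map_one, one_mul] at hb
  obtain ⟨_, ⟨a, rfl⟩, j, hj, hb⟩ := Submodule.mem_sup.1 hb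
  refine ⟨a, ?_⟩
  rw [← hb, show φ.toLinearMap a + j - φ a = j by simp]
  exact hj

end Groth.Agent.Comod.LunaGen
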