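import Groth.Agent.Comod.LunaGen.Orbit
import Groth.Agent.Comod.InvFinite

/-!
# Luna's fundamental lemma over any field: adic topologies on invariants
-/

set_option autoImplicit false
set_option linter.unusedSectionVars false
set_option linter.style.haveILetI false

universe u v w w'

noncomputable section

open TensorProduct

namespace Groth.Agent.Comod.LunaGen

variable {k : Type u} [Field k] {H : Type v} [CommRing H] [HopfAlgebra k H] {α : H →ₗ[k] k}
variable {R : Type w} [CommRing R] [Algebra k R] [HopfRep.Comod k H R] [GLin.IsCoactAlg k H R]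

section Poly

variable {ι : Type*} [Fintype ι] [DecidableEq ι] {a : ι → ι → H}

/-- homogeneous components are equivariant -/
theorem isComodHom_comp (ha : IsMat k a) (d : ℕ) :
    letI := polyComod R ha
    Hoch.IsComodHom H ((MvPolynomial.homogeneousComponent (σ := ι) (R := R) d).restrictScalars k) := by
  letI := polyComod R ha
  let comp : ℕ → MvPolynomial ι R →ₗ[k] MvPolynomial ι R := fun d =>
    (MvPolynomial.homogeneousComponent (σ := ι) (R := R) d).restrictScalars k
  refine LinearMap.ext fun p => ?_
  simp only [LinearMap.comp_apply]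
  conv_rhs => rw [← MvPolynomial.sum_homogeneousComponent p]
  conv_lhs => rw [← MvPolynomial.sum_homogeneousComponent p]
  simp only [map_sum]
  refine Finset.sum_congr rfl fun e _ => ?_
  have hq := MvPolynomial.homogeneousComponent_isHomogeneous e p
  generalize MvPolynomial.homogeneousComponent e p = q at hq ⊢
  obtain ⟨z, hz⟩ := polyCoact_mem (k := k) (a := a) e hq
  change polyCoact R a (MvPolynomial.homogeneousComponent d q) = (comp d).rTensor H (polyCoact R a q)
  rw [← hz, MvPolynomial.homogeneousComponent_of_mem hq, ← LinearMap.rTensor_comp_apply]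
  by_cases hde : d = e
  · subst hde
    have : comp d ∘ₗ ((MvPolynomial.homogeneousSubmodule ι R d).restrictScalars k).subtype =
        ((MvPolynomial.homogeneousSubmodule ι R d).restrictScalars k).subtype := LinearMap.ext fun x => by
      simp [comp, MvPolynomial.homogeneousComponent_of_mem x.2]
    rw [this, if_pos rfl, hz]
  · have : comp d ∘ₗ ((MvPolynomial.homogeneousSubmodule ι R e).restrictScalars k).subtype = 0 :=
      LinearMap.ext fun x => by simp [comp, MvPolynomial.homogeneousComponent_of_mem x.2, hde]
    rw [this, if_neg hde]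
    simp

theorem map_mem_fixedPts {V : Type*} [AddCommGroup V] [Module k V] [HopfRep.Comod k H V]
    {W : Type*} [AddCommGroup W] [Module k W] [HopfRep.Comod k H W] {f : V →ₗ[k] W} (hf : Hoch.IsComodHom H f)
    {v : V} (hv : v ∈ HopfRep.fixedPts k H V) : f v ∈ HopfRep.fixedPts k H W := by
  have h := LinearMap.congr_fun hf v
  simp only [LinearMap.comp_apply] at h
  change _ = _
  rw [h, show HopfRep.Comod.coact (k := k) (A := H) v = v ⊗ₜ[k] (1 : H) from hv]
  rfl

theorem C_isComodHom (ha : IsMat k a) :
    letI := polyComod R ha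
    Hoch.IsComodHom H (IsScalarTower.toAlgHom k R (MvPolynomial ι R)).toLinearMap := by
  letI := polyComod R ha
  refine LinearMap.ext fun x => ?_
  simp only [LinearMap.comp_apply, AlgHom.toLinearMap_apply, IsScalarTower.coe_toAlgHom',
    MvPolynomial.algebraMap_eq]
  refine (polyCoact_C R a x).trans ?_
  induction HopfRep.Comod.coact (k := k) (A := H) x using TensorProduct.induction_on with
  | zero => simp
  | add p q hp hq => simp only [map_add, hp, hq]
  | tmul p q => simp

end Poly

set_option maxHeartbeats 800000 in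
/-- the topology of a stable ideal on the invariants -/
theorem exists_pow_inter_le {R : Type w} [CommRing R] [Algebra k R] [cR : HopfRep.Comod k H R]
    [GLin.IsCoactAlg k H R] [IsNoetherianRing R] (h : IsIntegral k α) {𝔍 : Ideal R}
    (h𝔍 : HopfRep.IsSubcomod (k := k) (A := H) (𝔍.restrictScalars k)) :
    ∃ d : ℕ, 0 < d ∧ ∀ (N : ℕ) (x : GLin.invariants k H R), (x : R) ∈ 𝔍 ^ (d * N) →
      x ∈ (𝔍.comap (GLin.invariants k H R).val) ^ N := by
  classical
  obtain ⟨t, ht⟩ := (IsNoetherian.noetherian 𝔍 : 𝔍.FG)
  obtain ⟨U₀, hfin, htU, hU₀⟩ := exists_finite_subcomod (k := k) (A := H) t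
  let U := U₀ ⊓ 𝔍.restrictScalars k
  have hU : HopfRep.IsSubcomod (k := k) (A := H) U := isSubcomod_inf hU₀ h𝔍
  haveI : Module.Finite k U := Submodule.finiteDimensional_of_le inf_le_left
  letI cU := ComodSub.Comod.restr cR U hU
  have hs : Hoch.IsComodHom H U.subtype :=
    (ComodSub.rTensor_subtype_comp_restrCoact cR U hU).symm
  let b := Module.finBasis k U
  let a := mat H b
  have ha : IsMat k a := isMat_mat b
  letI cP := polyComod R ha
  haveI : GLin.IsCoactAlg k H (MvPolynomial (Fin (Module.finrank k U)) R) :=
    ⟨map_one (polyCoact R a), map_mul (polyCoact R a)⟩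
  let Φ : (MvPolynomial (Fin (Module.finrank k U)) R) →ₐ[k] R := (MvPolynomial.aeval fun i => (b i : R)).restrictScalars k
  have hΦ : Hoch.IsComodHom H Φ.toLinearMap := by
    have key : ((GLin.coactAlgHom k H R).comp Φ).toRingHom =
        ((Algebra.TensorProduct.map Φ (AlgHom.id k H)).comp (polyCoact R a)).toRingHom := by
      refine MvPolynomial.ringHom_ext (fun x => ?_) (fun j => ?_)
      · simp only [AlgHom.toRingHom_eq_coe, RingHom.coe_coe, AlgHom.comp_apply, GLin.coactAlgHom_apply,
          polyCoact_C, Φ, AlgHom.restrictScalars_apply, MvPolynomial.aeval_C, Algebra.algebraMap_self, RingHom.id_apply]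
        induction HopfRep.Comod.coact (k := k) (A := H) x using TensorProduct.induction_on with
        | zero => simp
        | add p q hp hq => simp only [map_add, ← hp, ← hq]
        | tmul p q => simp
      · simp only [AlgHom.toRingHom_eq_coe, RingHom.coe_coe, AlgHom.comp_apply, GLin.coactAlgHom_apply,
          polyCoact_X, Φ, AlgHom.restrictScalars_apply, MvPolynomial.aeval_X]
        have h1 := LinearMap.congr_fun hs (b j)
        simp only [LinearMap.comp_apply, Submodule.subtype_apply, coact_basis, map_sum,
          LinearMap.rTensor_tmul] at h1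
        rw [h1, map_sum]
        simp [a]
    exact LinearMap.ext fun x => RingHom.congr_fun key x
  let comp : ℕ → (MvPolynomial (Fin (Module.finrank k U)) R) →ₗ[k] (MvPolynomial (Fin (Module.finrank k U)) R) := fun d =>
    (MvPolynomial.homogeneousComponent (σ := Fin (Module.finrank k U)) (R := R) d).restrictScalars k
  have hcomp : ∀ d, Hoch.IsComodHom H (comp d) := fun d => isComodHom_comp ha d
  -- the ideal generated by the basis
  have hspan : ∀ n, ∀ x ∈ 𝔍 ^ n, ∃ p : (MvPolynomial (Fin (Module.finrank k U)) R), p.IsHomogeneous n ∧ Φ p = x := by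
    intro n
    induction n with
    | zero => exact fun x _ => ⟨MvPolynomial.C x, MvPolynomial.isHomogeneous_C _ _, by simp [Φ]⟩
    | succ n ih =>
      intro x hx
      rw [pow_succ] at hx
      refine Submodule.mul_induction_on hx (fun y hy z hz => ?_) fun y z hy hz => ?_
      · obtain ⟨p, hp, rfl⟩ := ih y hy
        rw [← ht] at hz
        induction hz using Submodule.span_induction with
        | mem z hz =>
          have hzU : z ∈ U := ⟨htU hz, ht ▸ Submodule.subset_span hz⟩
          refine ⟨p * ∑ i, MvPolynomial.C (algebraMap k R (b.repr ⟨z, hzU⟩ i)) * MvPolynomial.X i, hp.mul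
            (MvPolynomial.IsHomogeneous.sum _ _ _ fun i _ => by
              simpa using (MvPolynomial.isHomogeneous_C _ (algebraMap k R (b.repr ⟨z, hzU⟩ i))).mul
                (MvPolynomial.isHomogeneous_X R i)), ?_⟩
          rw [map_mul]
          refine congrArg _ ?_
          have := congrArg (fun u : U => (u : R)) (b.sum_repr ⟨z, hzU⟩)
          simp only [Submodule.coe_sum, Submodule.coe_smul] at this
          simp only [map_sum, map_mul, Φ, AlgHom.restrictScalars_apply, MvPolynomial.aeval_C, MvPolynomial.aeval_X,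
            Algebra.algebraMap_self, RingHom.id_apply, ← Algebra.smul_def]
          exact this
        | zero => exact ⟨0, MvPolynomial.isHomogeneous_zero _ _ _, by simp⟩
        | add y z _ _ hy hz =>
          obtain ⟨q, hq, hq'⟩ := hy
          obtain ⟨q', hq'', hq'''⟩ := hz
          exact ⟨q + q', hq.add hq'', by rw [map_add, hq', hq''', mul_add]⟩
        | smul c y _ hy =>
          obtain ⟨q, hq, hq'⟩ := hy
          refine ⟨MvPolynomial.C c * q, by simpa using (MvPolynomial.isHomogeneous_C _ c).mul hq, ?_⟩
          rw [map_mul, hq', smul_eq_mul]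
          simp [Φ]
          ring
      · obtain ⟨q, hq, rfl⟩ := hy
        obtain ⟨q', hq', rfl⟩ := hz
        exact ⟨q + q', hq.add hq', map_add _ _ _⟩
  have hΦmem : ∀ (n : ℕ) (p : (MvPolynomial (Fin (Module.finrank k U)) R)), p.IsHomogeneous n → 1 ≤ n → Φ p ∈ 𝔍 := by
    intro n p hp hn
    rw [p.as_sum, map_sum]
    refine 𝔍.sum_mem fun s hs => ?_
    simp only [Φ, AlgHom.restrictScalars_apply, MvPolynomial.aeval_monomial]
    refine 𝔍.mul_mem_left _ ?_
    have hs0 : s ≠ 0 := by
      rintro rfl
      have := hp (MvPolynomial.mem_support_iff.1 hs)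
      simp at this; omega
    obtain ⟨i, hi⟩ := Finsupp.support_nonempty_iff.2 hs0
    rw [Finsupp.prod, ← Finset.mul_prod_erase _ _ hi]
    exact 𝔍.mul_mem_right _ (Ideal.pow_mem_of_mem _ (b i).2.2 _ (Nat.pos_of_ne_zero (Finsupp.mem_support_iff.1 hi)))
  obtain ⟨s, hs', hgen⟩ := exists_generators_poly (a := a) ha h (A := R)
  let d := s.sup MvPolynomial.totalDegree + 1
  have hd0 : 0 < d := Nat.succ_pos _
  let c : ℕ → ℕ := fun e => (e + d - 1) / d
  have hc : ∀ i j, c (i + j) ≤ c i + c j := by
    intro i j
    have h1 : i ≤ d * c i := by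
      have := Nat.lt_mul_div_succ (i + d - 1) hd0
      rw [mul_add, mul_one] at this
      simp only [c]; omega
    have h2 : j ≤ d * c j := by
      have := Nat.lt_mul_div_succ (j + d - 1) hd0
      rw [mul_add, mul_one] at this
      simp only [c]; omega
    refine Nat.le_of_lt_succ ((Nat.div_lt_iff_lt_mul hd0).2 ?_)
    rw [Nat.succ_mul, add_mul, mul_comm (c i), mul_comm (c j)]
    omega
  let n₀ := 𝔍.comap (GLin.invariants k H R).val
  let L : ℕ → Submodule (GLin.invariants k H R) R := fun e =>
    Submodule.map (Algebra.linearMap (GLin.invariants k H R) R) (n₀ ^ c e)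
  let W : Subalgebra k (MvPolynomial (Fin (Module.finrank k U)) R) :=
    { carrier := {f | ∀ e, Φ (comp e f) ∈ L e}
      zero_mem' := fun e => by simp
      add_mem' := fun {f g} hf hg e => by rw [map_add, map_add]; exact add_mem (hf e) (hg e)
      mul_mem' := fun {f g} hf hg e => by
        have : comp e (f * g) = ∑ i ∈ Finset.range (e + 1), comp i f * comp (e - i) g := by
          simp only [comp, LinearMap.coe_restrictScalars]
          conv_lhs => rw [← MvPolynomial.sum_homogeneousComponent f, Finset.sum_mul, map_sum]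
          have hterm : ∀ i, MvPolynomial.homogeneousComponent e (MvPolynomial.homogeneousComponent i f * g) =
              if i ≤ e then MvPolynomial.homogeneousComponent i f * MvPolynomial.homogeneousComponent (e - i) g
              else 0 := by
            intro i
            conv_lhs => rw [← MvPolynomial.sum_homogeneousComponent g, Finset.mul_sum, map_sum]
            simp only [MvPolynomial.homogeneousComponent_of_mem
              ((MvPolynomial.homogeneousComponent_isHomogeneous i f).mul
                (MvPolynomial.homogeneousComponent_isHomogeneous _ g))]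
            split_ifs with hie
            · rw [Finset.sum_eq_single (e - i)]
              · rw [if_pos (by omega)]
              · intro j _ hj; rw [if_neg (by omega)]
              · intro hj
                rw [if_pos (by omega), MvPolynomial.homogeneousComponent_eq_zero _ g
                  (by simp only [Finset.mem_range, not_lt] at hj; omega), mul_zero]
            · exact Finset.sum_eq_zero fun j _ => if_neg (by omega)
          simp only [hterm]
          refine (Finset.sum_congr rfl fun i _ => ?_).trans
            ((Finset.sum_filter (p := fun i => i ≤ e) _).symm.trans (Finset.sum_subset ?_ ?_))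
          · rfl
          · intro i hi
            simp only [Finset.mem_filter, Finset.mem_range] at hi ⊢
            omega
          · intro i hi hi'
            simp only [Finset.mem_filter, Finset.mem_range, not_and] at hi hi'
            rw [MvPolynomial.homogeneousComponent_eq_zero i f, zero_mul]
            by_contra hlt
            exact hi' (by omega) (by omega)
        rw [this, map_sum]
        refine Submodule.sum_mem _ fun i hi => ?_
        rw [map_mul]
        obtain ⟨y, hy, hy'⟩ := hf i
        obtain ⟨z, hz, hz'⟩ := hg (e - i)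
        refine ⟨y * z, ?_, by rw [← hy', ← hz']; exact map_mul (algebraMap _ R) y z⟩
        refine Ideal.pow_le_pow_right ?_ (by rw [pow_add]; exact Ideal.mul_mem_mul hy hz)
        have := hc i (e - i)
        rwa [Nat.add_sub_cancel' (by simp only [Finset.mem_range] at hi; omega)] at this
      algebraMap_mem' := fun r e => by
        rw [IsScalarTower.algebraMap_apply k R (MvPolynomial (Fin (Module.finrank k U)) R), MvPolynomial.algebraMap_eq]
        simp only [comp, LinearMap.coe_restrictScalars]
        rw [MvPolynomial.homogeneousComponent_of_mem (MvPolynomial.isHomogeneous_C _ _)]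
        split_ifs with he
        · subst he
          exact ⟨algebraMap k _ r, by simp [c, Nat.div_eq_of_lt (show d - 1 < d by omega)], by
            simp [Φ, ← IsScalarTower.algebraMap_apply]⟩
        · simp }
  have hWle : Algebra.adjoin k (MvPolynomial.C '' (HopfRep.fixedPts k H R : Set R) ∪ (↑s : Set (MvPolynomial (Fin (Module.finrank k U)) R))) ≤ W := by
    refine Algebra.adjoin_le (Set.union_subset ?_ fun g hg => ?_)
    · rintro _ ⟨r, hr, rfl⟩ e
      simp only [comp, LinearMap.coe_restrictScalars]
      rw [MvPolynomial.homogeneousComponent_of_mem (MvPolynomial.isHomogeneous_C _ _)]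
      split_ifs with he
      · subst he
        exact ⟨⟨r, hr⟩, by simp [c, Nat.div_eq_of_lt (show d - 1 < d by omega)], by simp [Φ]⟩
      · simp
    · intro e
      have hfix : Φ (comp e g) ∈ HopfRep.fixedPts k H R :=
        map_mem_fixedPts hΦ (map_mem_fixedPts (hcomp e) (hs' g hg))
      rcases Nat.lt_or_ge d e with hlt | hle
      · have : comp e g = 0 := MvPolynomial.homogeneousComponent_eq_zero _ _
          (by have := Finset.le_sup (f := MvPolynomial.totalDegree) hg; omega)
        rw [this, map_zero]
        exact zero_mem _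
      · refine ⟨⟨_, hfix⟩, ?_, rfl⟩
        rcases Nat.eq_zero_or_pos e with rfl | he
        · simp [c, Nat.div_eq_of_lt (show d - 1 < d by omega)]
        · rw [show c e = 1 from Nat.div_eq_of_lt_le (by omega) (by omega), pow_one]
          exact hΦmem e _ (MvPolynomial.homogeneousComponent_isHomogeneous _ _) he
  refine ⟨d, hd0, fun N x hx => ?_⟩
  obtain ⟨p, hp, hpx⟩ := hspan _ _ hx
  have hq := hWle (hgen _ (avg_mem h p))
  obtain ⟨y, hy, hy'⟩ := hq (d * N)
  have e1 : comp (d * N) (avg α p) = avg α p := by
    rw [map_avg α (hcomp _), show comp (d * N) p = p by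
      simp [comp, MvPolynomial.homogeneousComponent_of_mem hp]]
  have e2 : Φ (avg α p) = (x : R) := by
    have := map_avg α hΦ p
    simp only [AlgHom.toLinearMap_apply, hpx] at this
    rw [this, avg_eq_self h x.2]
  rw [e1, e2] at hy'
  rw [show x = y from Subtype.ext hy'.symm]
  have : c (d * N) = N := by
    simp only [c]
    rw [Nat.add_sub_assoc hd0, Nat.mul_add_div hd0, Nat.div_eq_of_lt (show d - 1 < d by omega), add_zero]
  rwa [this] at hy

section Approx

variable {A : Type w} [CommRing A] [Algebra k A] [HopfRep.Comod k H A] [GLin.IsCoactAlg k H A]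
variable {B : Type w} [CommRing B] [Algebra k B] [HopfRep.Comod k H B] [GLin.IsCoactAlg k H B]

/-- neighbourhoods of the orbits agree to all orders -/
theorem approx [IsNoetherianRing A] {φ : A →ₐ[k] B} (hφ : Hoch.IsComodHom H φ.toLinearMap)
    (het : φ.toRingHom.Etale) (w : B →ₐ[k] k) (hw : GLin.IsClosedOrbit k H w)
    (hφw : GLin.IsClosedOrbit k H (w.comp φ))
    (hst : GLin.stabIdeal k H (w.comp φ) = GLin.stabIdeal k H w) :
    (∀ (j : ℕ) (b : B), ∃ a, b - φ a ∈ RingHom.ker (GLin.orbitHom k H w) ^ j) ∧
    ∀ (j : ℕ) (a : A), φ a ∈ RingHom.ker (GLin.orbitHom k H w) ^ j →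
      a ∈ RingHom.ker (GLin.orbitHom k H (w.comp φ)) ^ j := by
  let I := RingHom.ker (GLin.orbitHom k H (w.comp φ))
  let J := RingHom.ker (GLin.orbitHom k H w)
  have hIJ : ∀ a, φ a ∈ J ↔ a ∈ I := fun a => by
    change GLin.orbitHom k H w (φ a) = 0 ↔ GLin.orbitHom k H (w.comp φ) a = 0
    rw [orbitHom_comp hφ]
  letI : Algebra A B := φ.toRingHom.toAlgebra
  haveI : Algebra.Etale A B := het
  choose σ hσ using fun b => exists_sub_mem_ker hφ het w hw hφw hst b
  let σI : B →ₐ[A] A ⧸ I :=
    { toFun := fun b => Ideal.Quotient.mk I (σ b)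
      map_one' := by
        refine (Ideal.Quotient.eq).2 ((hIJ _).1 ?_)
        rw [show φ (σ 1 - 1) = -(1 - φ (σ 1)) by simp]
        exact neg_mem (hσ 1)
      map_zero' := by
        refine Ideal.Quotient.eq_zero_iff_mem.2 ((hIJ _).1 ?_)
        rw [show φ (σ 0) = -(0 - φ (σ 0)) by simp]
        exact neg_mem (hσ 0)
      map_mul' := fun x y => by
        rw [← map_mul]
        refine (Ideal.Quotient.eq).2 ((hIJ _).1 ?_)
        rw [map_sub, map_mul, show φ (σ (x * y)) - φ (σ x) * φ (σ y) =
          (y * (x - φ (σ x))) + φ (σ x) * (y - φ (σ y)) - (x * y - φ (σ (x * y))) by ring]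
        exact sub_mem (add_mem (J.mul_mem_left _ (hσ x)) (J.mul_mem_left _ (hσ y))) (hσ _)
      map_add' := fun x y => by
        rw [← map_add]
        refine (Ideal.Quotient.eq).2 ((hIJ _).1 ?_)
        rw [map_sub, map_add, show φ (σ (x + y)) - (φ (σ x) + φ (σ y)) =
          (x - φ (σ x)) + (y - φ (σ y)) - (x + y - φ (σ (x + y))) by ring]
        exact sub_mem (add_mem (hσ x) (hσ y)) (hσ _)
      commutes' := fun a => by
        refine (Ideal.Quotient.eq).2 ((hIJ _).1 ?_)
        rw [map_sub, show φ (σ (algebraMap A B a)) - φ a = -(φ a - φ (σ (φ a))) by rw [neg_sub]; rfl]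
        exact neg_mem (hσ (φ a)) }
  have hσJ : ∀ x ∈ J, σ x ∈ I := fun x hx => (hIJ _).1 (by simpa using sub_mem hx (hσ x))
  have hJ2 : J ≤ I.map φ.toRingHom ⊔ J ^ 2 := by
    let J₂ := I.map φ.toRingHom ⊔ J ^ 2
    have hle : J₂ ≤ J := sup_le (Ideal.map_le_iff_le_comap.2 fun a ha => (hIJ a).2 ha) (Ideal.pow_le_self two_ne_zero)
    let f : A ⧸ I →ₐ[A] B ⧸ J₂ := Ideal.Quotient.liftₐ I (Algebra.ofId A (B ⧸ J₂)) fun a ha =>
      Ideal.Quotient.eq_zero_iff_mem.2 (Ideal.mem_sup_left (Ideal.mem_map_of_mem φ.toRingHom ha))
    have h0 : (J.map (Ideal.Quotient.mk J₂)) ^ 2 = ⊥ := by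
      rw [← Ideal.map_pow, Ideal.map_eq_bot_iff_le_ker, Ideal.mk_ker]
      exact le_sup_right
    have he : f.comp σI = Ideal.Quotient.mkₐ A J₂ := by
      refine Algebra.FormallyUnramified.comp_injective _ h0 (AlgHom.ext fun b => ?_)
      change Ideal.Quotient.mk _ (Ideal.Quotient.mk J₂ (φ (σ b))) = Ideal.Quotient.mk _ (Ideal.Quotient.mk J₂ b)
      rw [Ideal.Quotient.eq, ← map_sub]
      exact Ideal.mem_map_of_mem _ (by rw [← neg_sub]; exact neg_mem (hσ b))
    intro x hx
    refine Ideal.Quotient.eq_zero_iff_mem.1 ?_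
    rw [← Ideal.Quotient.mkₐ_eq_mk A J₂, ← he, AlgHom.comp_apply,
      show σI x = 0 from Ideal.Quotient.eq_zero_iff_mem.2 (hσJ x hx), map_zero]
  have hpow : ∀ j, J ^ j ≤ I.map φ.toRingHom ^ j ⊔ J ^ (j + 1) := by
    intro j
    induction j with
    | zero => simp
    | succ j ih =>
      have hmJ : I.map φ.toRingHom ≤ J := Ideal.map_le_iff_le_comap.2 fun a ha => (hIJ a).2 ha
      calc J ^ (j + 1) = J ^ j * J := pow_succ _ _
        _ ≤ (I.map φ.toRingHom ^ j ⊔ J ^ (j + 1)) * (I.map φ.toRingHom ⊔ J ^ 2) := Ideal.mul_mono ih hJ2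
        _ ≤ I.map φ.toRingHom ^ (j + 1) ⊔ J ^ (j + 1 + 1) := by
          rw [Ideal.sup_mul, Ideal.mul_sup, Ideal.mul_sup]
          refine sup_le (sup_le ?_ ?_) (sup_le ?_ ?_)
          · exact le_sup_of_le_left (le_of_eq (pow_succ _ _).symm)
          · refine le_sup_of_le_right ((Ideal.mul_mono_left (Ideal.pow_right_mono hmJ j)).trans ?_)
            rw [← pow_add]
          · refine le_sup_of_le_right ((Ideal.mul_mono_right hmJ).trans (le_of_eq (pow_succ _ _).symm))
          · refine le_sup_of_le_right ?_
            rw [← pow_add]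
            exact Ideal.pow_le_pow_right (by omega)
  refine ⟨fun j => ?_, fun j a ha => ?_⟩
  · induction j with
    | zero => exact fun b => ⟨0, by simp⟩
    | succ j ih =>
      intro b
      obtain ⟨a, ha⟩ := ih b
      have h1 := hpow j ha
      rw [← Ideal.map_pow] at h1
      obtain ⟨p, hp, q, hq, hpq⟩ := Submodule.mem_sup.1 h1
      suffices h : ∃ a', p - φ a' ∈ J ^ (j + 1) by
        obtain ⟨a', ha'⟩ := h
        refine ⟨a + a', ?_⟩
        rw [map_add, show b - (φ a + φ a') = (p - φ a') + q from by linear_combination -hpq]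
        exact add_mem ha' hq
      clear hpq hq
      induction hp using Submodule.span_induction with
      | mem p hp =>
        obtain ⟨i, -, rfl⟩ := hp
        exact ⟨i, by simp⟩
      | zero => exact ⟨0, by simp⟩
      | add x y _ _ hx hy =>
        obtain ⟨a₁, h₁⟩ := hx; obtain ⟨a₂, h₂⟩ := hy
        exact ⟨a₁ + a₂, by rw [map_add, add_sub_add_comm]; exact add_mem h₁ h₂⟩
      | smul c x hx' hx =>
        obtain ⟨a₁, h₁⟩ := hx
        refine ⟨σ c * a₁, ?_⟩
        have hxj : x ∈ J ^ j := by
          have hle : (I ^ j).map φ.toRingHom ≤ J ^ j := by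
            rw [Ideal.map_pow]
            exact Ideal.pow_right_mono (Ideal.map_le_iff_le_comap.2 fun a ha => show a ∈ J.comap φ.toRingHom from (hIJ a).2 ha) j
          exact hle hx'
        rw [smul_eq_mul, map_mul, show c * x - φ (σ c) * φ a₁ = (c - φ (σ c)) * x + φ (σ c) * (x - φ a₁) by ring]
        refine add_mem ?_ (Ideal.mul_mem_left _ _ h₁)
        rw [pow_succ']
        exact Ideal.mul_mem_mul (hσ c) hxj
  · rcases Nat.eq_zero_or_pos j with rfl | hj
    · simp
    · let K : Ideal (A ⧸ I ^ j) := I.map (Ideal.Quotient.mk _)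
      have hK : IsNilpotent K := ⟨j, by
        rw [← Ideal.map_pow, Ideal.zero_eq_bot, Ideal.map_eq_bot_iff_le_ker, Ideal.mk_ker]⟩
      let g : B →ₐ[A] (A ⧸ I ^ j) ⧸ K :=
        (DoubleQuot.quotQuotEquivQuotOfLEₐ A (Ideal.pow_le_self hj.ne')).symm.toAlgHom.comp σI
      let τ := Algebra.FormallySmooth.lift K hK g
      have hτ : J ≤ K.comap τ := fun x hx => by
        rw [Ideal.mem_comap, ← Ideal.Quotient.eq_zero_iff_mem, Algebra.FormallySmooth.mk_lift]
        change (DoubleQuot.quotQuotEquivQuotOfLEₐ A (Ideal.pow_le_self hj.ne')).symm (σI x) = 0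
        rw [show σI x = 0 from Ideal.Quotient.eq_zero_iff_mem.2 (hσJ x hx), map_zero]
      have h1 : τ (φ a) ∈ K ^ j := by
        have := Ideal.pow_right_mono hτ j ha
        exact Ideal.le_comap_pow _ _ this
      rw [show K ^ j = ⊥ by
        rw [← Ideal.map_pow, Ideal.map_eq_bot_iff_le_ker, Ideal.mk_ker], Ideal.mem_bot] at h1
      rw [show τ (φ a) = Ideal.Quotient.mk (I ^ j) a from τ.commutes a, Ideal.Quotient.eq_zero_iff_mem] at h1
      exact h1

end Approx

end Groth.Agent.Comod.LunaGen
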