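import Groth.Agent.Comod.LunaGen.Etale

/-!
# Luna's fundamental lemma over any field: a surjective étale comparison map is injective
-/

set_option autoImplicit false
set_option linter.unusedSectionVars false
set_option linter.style.haveILetI false

universe u v w

noncomputable section

open TensorProduct

namespace Groth.Agent.Comod.LunaGen

section LiftRing

variable {S A R X : Type*} [CommRing S] [CommRing A] [CommRing R] [CommRing X] [Algebra S A] [Algebra S R]

/-- a ring map out of a tensor product -/
def liftRing (f : A →+* X) (h : R →+* X) (hc : ∀ s, f (algebraMap S A s) = h (algebraMap S R s)) :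
    A ⊗[S] R →+* X :=
  letI := (f.comp (algebraMap S A)).toAlgebra
  (Algebra.TensorProduct.lift ({ f with commutes' := fun _ => rfl } : A →ₐ[S] X)
    ({ h with commutes' := fun s => (hc s).symm } : R →ₐ[S] X) fun _ _ => Commute.all _ _).toRingHom

theorem liftRing_tmul (f : A →+* X) (h : R →+* X) (hc : ∀ s, f (algebraMap S A s) = h (algebraMap S R s))
    (a : A) (r : R) : liftRing f h hc (a ⊗ₜ[S] r) = f a * h r := rfl

end LiftRing

variable {k : Type u} [Field k] {H : Type v} [CommRing H] [HopfAlgebra k H] {α : H →ₗ[k] k}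
variable {A : Type w} [CommRing A] [Algebra k A] [HopfRep.Comod k H A] [GLin.IsCoactAlg k H A]
variable {B : Type w} [CommRing B] [Algebra k B] [HopfRep.Comod k H B] [GLin.IsCoactAlg k H B]
variable [Algebra A B] [IsScalarTower k A B]
variable {S : Type w} [CommRing S] [Algebra k S] [Algebra S A] [IsScalarTower k S A]
variable {R : Type w} [CommRing R] [Algebra S R]
variable {D : Type w} [CommRing D] [Algebra k D] [Algebra B D] [IsScalarTower k B D]
  [Algebra A D] [IsScalarTower A B D] [IsScalarTower k A D]

variable (k R) in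
/-- the inclusion in the base change -/
def inc : A →ₐ[k] A ⊗[S] R := Algebra.TensorProduct.includeLeft

theorem inc_apply (a : A) : inc (S := S) k R a = a ⊗ₜ[S] (1 : R) := rfl

/-- coaction twisted by an endomorphism of the group, on the base change, as a ring map -/
def twCR (hS : ∀ a : S, algebraMap S A a ∈ GLin.invariants k H A) (s : H →ₐ[k] H) :
    A ⊗[S] R →+* (A ⊗[S] R) ⊗[k] H :=
  liftRing
      ((Algebra.TensorProduct.map (inc k R) s).comp (GLin.coactAlgHom k H A)).toRingHom
      ((Algebra.TensorProduct.includeLeftRingHom : A ⊗[S] R →+* (A ⊗[S] R) ⊗[k] H).comp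
        (Algebra.TensorProduct.includeRight : R →ₐ[S] A ⊗[S] R).toRingHom)
      (fun a => by
        change Algebra.TensorProduct.map _ s (HopfRep.Comod.coact (k := k) (A := H) (algebraMap S A a)) = _
        rw [(GLin.mem_invariants_iff k H A (algebraMap S A a)).1 (hS a), Algebra.TensorProduct.map_tmul, map_one]
        change ((algebraMap S A a) ⊗ₜ[S] (1 : R)) ⊗ₜ[k] (1 : H) = ((1 : A) ⊗ₜ[S] algebraMap S R a) ⊗ₜ[k] (1 : H)
        rw [Algebra.algebraMap_eq_smul_one, Algebra.algebraMap_eq_smul_one, TensorProduct.smul_tmul])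

theorem twCR_tmul (hS : ∀ a : S, algebraMap S A a ∈ GLin.invariants k H A) (s : H →ₐ[k] H) (a : A) (r : R) :
    twCR hS s (a ⊗ₜ[S] r) = Algebra.TensorProduct.map (inc k R) s (HopfRep.Comod.coact (k := k) (A := H) a) *
      ((1 : A) ⊗ₜ[S] r) ⊗ₜ[k] (1 : H) := by
  rw [twCR, liftRing_tmul]
  simp only [AlgHom.toRingHom_eq_coe, RingHom.coe_coe, AlgHom.comp_apply, GLin.coactAlgHom_apply,
    RingHom.comp_apply, Algebra.TensorProduct.includeRight_apply, Algebra.TensorProduct.includeLeftRingHom_apply]

/-- coaction twisted by an endomorphism of the group, on the base change -/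
def twC (hS : ∀ a : S, algebraMap S A a ∈ GLin.invariants k H A) (s : H →ₐ[k] H) :
    A ⊗[S] R →ₐ[k] (A ⊗[S] R) ⊗[k] H :=
  { twCR hS s with
    commutes' := fun c => by
      change twCR hS s ((algebraMap k A c) ⊗ₜ[S] (1 : R)) = _
      rw [twCR_tmul, ← GLin.coactAlgHom_apply, AlgHom.commutes, AlgHom.commutes, ← Algebra.TensorProduct.one_def,
        ← Algebra.TensorProduct.one_def, mul_one] }

theorem twC_tmul (hS : ∀ a : S, algebraMap S A a ∈ GLin.invariants k H A) (s : H →ₐ[k] H) (a : A) (r : R) :
    twC hS s (a ⊗ₜ[S] r) = Algebra.TensorProduct.map (inc k R) s (HopfRep.Comod.coact (k := k) (A := H) a) *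
      ((1 : A) ⊗ₜ[S] r) ⊗ₜ[k] (1 : H) :=
  (rfl : twC hS s (a ⊗ₜ[S] r) = twCR hS s (a ⊗ₜ[S] r)).trans (twCR_tmul hS s a r)

variable (g : B) [IsLocalization.Away g D]

/-- coaction twisted by an endomorphism of the group, on the localization -/
def twB (hg : g ∈ GLin.invariants k H B) (s : H →ₐ[k] H) : D →ₐ[k] D ⊗[k] H :=
  IsLocalization.liftAlgHom (M := Submonoid.powers g)
    (f := (Algebra.TensorProduct.map (IsScalarTower.toAlgHom k B D) s).comp (GLin.coactAlgHom k H B)) fun y => by
    obtain ⟨_, n, rfl⟩ := y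
    rw [map_pow]
    refine IsUnit.pow n ?_
    rw [AlgHom.comp_apply, GLin.coactAlgHom_apply, (GLin.mem_invariants_iff k H B g).1 hg,
      Algebra.TensorProduct.map_tmul, map_one]
    exact (IsLocalization.Away.algebraMap_isUnit (S := D) g).map
      (Algebra.TensorProduct.includeLeftRingHom : D →+* D ⊗[k] H)

theorem twB_algebraMap (hg : g ∈ GLin.invariants k H B) (s : H →ₐ[k] H) (b : B) :
    twB g hg s (algebraMap B D b) =
    Algebra.TensorProduct.map (IsScalarTower.toAlgHom k B D) s (HopfRep.Comod.coact (k := k) (A := H) b) :=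
  IsLocalization.lift_eq _ _

theorem twist_comm (hθ : Hoch.IsComodHom H (IsScalarTower.toAlgHom k A B).toLinearMap)
    (hS : ∀ a : S, algebraMap S A a ∈ GLin.invariants k H A) (hg : g ∈ GLin.invariants k H B)
    (P : A ⊗[S] R →ₐ[k] D) (ρ : R →+* D) (hP : ∀ a r, P (a ⊗ₜ[S] r) = algebraMap A D a * ρ r)
    (hρ : ∀ r, ∃ (b : B) (n : ℕ), b ∈ GLin.invariants k H B ∧ ρ r * algebraMap B D g ^ n = algebraMap B D b)
    (s : H →ₐ[k] H) (c : A ⊗[S] R) :
    Algebra.TensorProduct.map P (AlgHom.id k H) (twC hS s c) = twB g hg s (P c) := by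
  induction c using TensorProduct.induction_on with
  | zero => simp
  | add p q hp hq => simp only [map_add, hp, hq]
  | tmul a r =>
    have hA : Algebra.TensorProduct.map P (AlgHom.id k H)
        (Algebra.TensorProduct.map (inc k R) s
          (HopfRep.Comod.coact (k := k) (A := H) a)) = twB g hg s (algebraMap A D a) := by
      rw [IsScalarTower.algebraMap_apply A B D, twB_algebraMap,
        show HopfRep.Comod.coact (k := k) (A := H) (algebraMap A B a) =
          (IsScalarTower.toAlgHom k A B).toLinearMap.rTensor H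
          (HopfRep.Comod.coact (k := k) (A := H) a) from LinearMap.congr_fun hθ a]
      induction HopfRep.Comod.coact (k := k) (A := H) a using TensorProduct.induction_on with
      | zero => simp
      | add p q hp hq => simp only [map_add, hp, hq]
      | tmul p q => simp [inc_apply, hP, ← IsScalarTower.algebraMap_apply A B D]
    have hfix : ∀ b ∈ GLin.invariants k H B, twB g hg s (algebraMap B D b) = algebraMap B D b ⊗ₜ[k] (1 : H) := by
      intro b hb
      rw [twB_algebraMap, (GLin.mem_invariants_iff k H B b).1 hb, Algebra.TensorProduct.map_tmul, map_one]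
      rfl
    have hR : ρ r ⊗ₜ[k] (1 : H) = twB g hg s (ρ r) := by
      obtain ⟨b, n, hb, hbn⟩ := hρ r
      have hu : IsUnit ((algebraMap B D g ^ n) ⊗ₜ[k] (1 : H)) :=
        ((IsLocalization.Away.algebraMap_isUnit (S := D) g).pow n).map
          (Algebra.TensorProduct.includeLeftRingHom : D →+* D ⊗[k] H)
      refine hu.mul_left_inj.1 ?_
      conv_rhs => arg 2; rw [← map_pow, ← hfix _ (pow_mem hg n), map_pow]
      rw [Algebra.TensorProduct.tmul_mul_tmul, mul_one, hbn, ← map_mul, hbn, hfix b hb]
    rw [twC_tmul, map_mul, hA, hP, map_mul, ← hR, Algebra.TensorProduct.map_tmul, map_one, hP, map_one, one_mul]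

/-- the twisted action on the product with the group -/
def twT (hS : ∀ a : S, algebraMap S A a ∈ GLin.invariants k H A) (s : H →ₐ[k] H) :
    (A ⊗[S] R) ⊗[k] H →ₐ[k] (A ⊗[S] R) ⊗[k] H :=
  Algebra.TensorProduct.productMap (twC hS s) Algebra.TensorProduct.includeRight

theorem twT_tmul_one (hS : ∀ a : S, algebraMap S A a ∈ GLin.invariants k H A) (s : H →ₐ[k] H) (c : A ⊗[S] R) :
    twT hS s (c ⊗ₜ[k] (1 : H)) = twC hS s c := by
  rw [twT, Algebra.TensorProduct.productMap_apply_tmul, map_one, mul_one]

theorem twT_comp (hS : ∀ a : S, algebraMap S A a ∈ GLin.invariants k H A) (c : A ⊗[S] R) :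
    twT hS (AlgHom.id k H) (twC hS (HopfAlgebra.antipodeAlgHom k H) c) = c ⊗ₜ[k] (1 : H) := by
  induction c using TensorProduct.induction_on with
  | zero => simp
  | add p q hp hq => simp only [map_add, TensorProduct.add_tmul, hp, hq]
  | tmul a r =>
    rw [twC_tmul, map_mul, twT_tmul_one]
    let Ψ : A ⊗[k] (H ⊗[k] H) →ₗ[k] (A ⊗[S] R) ⊗[k] H :=
      TensorProduct.map (inc k R).toLinearMap (LinearMap.mul' k H ∘ₗ (HopfAlgebra.antipode k).lTensor H)
    have h1 : twT hS (AlgHom.id k H) (Algebra.TensorProduct.map (inc k R) (HopfAlgebra.antipodeAlgHom k H)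
        (HopfRep.Comod.coact (k := k) (A := H) a)) = inc (S := S) k R a ⊗ₜ[k] (1 : H) := by
      have e1 : ∀ z : A ⊗[k] H, twT hS (AlgHom.id k H)
          (Algebra.TensorProduct.map (inc k R) (HopfAlgebra.antipodeAlgHom k H) z) =
          Ψ (TensorProduct.assoc k A H H ((HopfRep.Comod.coact (k := k) (A := H) (V := A)).rTensor H z)) := by
        intro z
        induction z using TensorProduct.induction_on with
        | zero => simp
        | add p q hp hq => simp only [map_add, hp, hq]
        | tmul p q =>
          rw [Algebra.TensorProduct.map_tmul, twT, Algebra.TensorProduct.productMap_apply_tmul,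
            inc_apply, twC_tmul, LinearMap.rTensor_tmul, Algebra.TensorProduct.includeRight_apply]
          induction HopfRep.Comod.coact (k := k) (A := H) p using TensorProduct.induction_on with
          | zero => simp
          | add x y hx hy => simp only [map_add, TensorProduct.add_tmul, add_mul, hx, hy]
          | tmul x y => simp [Ψ, inc_apply, ← Algebra.TensorProduct.one_def]
      have h0 := LinearMap.congr_fun (HopfRep.Comod.coassoc (k := k) (A := H) (V := A)) a
      have hc := LinearMap.congr_fun (HopfRep.Comod.counit_comp (k := k) (A := H) (V := A)) a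
      simp only [LinearMap.comp_apply, LinearEquiv.coe_coe, LinearMap.flip_apply, TensorProduct.mk_apply] at h0 hc
      have e2 : ∀ z : A ⊗[k] H, Ψ ((CoalgebraStruct.comul (R := k) (A := H)).lTensor A z) =
          TensorProduct.map (inc (S := S) k R).toLinearMap (Algebra.linearMap k H)
            ((CoalgebraStruct.counit (R := k) (A := H)).lTensor A z) := by
        intro z
        induction z using TensorProduct.induction_on with
        | zero => simp
        | add p q hp hq => simp only [map_add, hp, hq]
        | tmul p q => simp [Ψ, HopfAlgebra.mul_antipode_lTensor_comul_apply]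
      rw [e1, h0, e2, hc]
      simp
    rw [h1, twC_tmul, GLin.IsCoactAlg.coact_one (k := k) (A := H) (R := A), map_one, one_mul,
      Algebra.TensorProduct.tmul_mul_tmul, mul_one, inc_apply, Algebra.TensorProduct.tmul_mul_tmul, mul_one, one_mul]

/-- Luna: the comparison map is injective -/
theorem injective_of_surjective [IsNoetherianRing A] [Algebra.Etale S R] [Algebra.Etale A D]
    (hα : IsIntegral k α) (hθ : Hoch.IsComodHom H (IsScalarTower.toAlgHom k A B).toLinearMap)
    (hS : ∀ a : S, algebraMap S A a ∈ GLin.invariants k H A)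
    (g : B) [IsLocalization.Away g D] (hg : g ∈ GLin.invariants k H B)
    (P : A ⊗[S] R →ₐ[A] D) (hsurj : Function.Surjective P)
    (ρ : R →+* D) (hρinj : Function.Injective ρ) (hP : ∀ a r, P (a ⊗ₜ[S] r) = algebraMap A D a * ρ r)
    (hρ : ∀ r, ∃ (b : B) (n : ℕ), b ∈ GLin.invariants k H B ∧ ρ r * algebraMap B D g ^ n = algebraMap B D b)
    (hfix : ∀ a ∈ GLin.invariants k H A, ∃ s : S, algebraMap S A s = a) :
    Function.Injective P := by
  let K := RingHom.ker P
  haveI : IsNoetherianRing (A ⊗[S] R) := Algebra.FiniteType.isNoetherianRing A (A ⊗[S] R)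
  have hK2 : K ≤ K * K := by
    let π : (A ⊗[S] R) ⧸ (K * K) →ₐ[A] D := Ideal.Quotient.liftₐ (K * K) P fun a ha =>
      (Ideal.mul_le_left ha : a ∈ K)
    have hπ : Function.Surjective π := fun z => by
      obtain ⟨c, rfl⟩ := hsurj z
      exact ⟨Ideal.Quotient.mk _ c, rfl⟩
    have hnil : IsNilpotent (RingHom.ker (π : (A ⊗[S] R) ⧸ (K * K) →+* D)) := by
      refine ⟨2, ?_⟩
      have hle : RingHom.ker (π : (A ⊗[S] R) ⧸ (K * K) →+* D) ≤ K.map (Ideal.Quotient.mk (K * K)) := fun z hz => by
        obtain ⟨c, rfl⟩ := Ideal.Quotient.mk_surjective z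
        exact Ideal.mem_map_of_mem _ hz
      refine le_bot_iff.1 ((Ideal.pow_right_mono hle 2).trans ?_)
      rw [← Ideal.map_pow, pow_two, Ideal.map_quotient_self]
    let σ : D →ₐ[A] (A ⊗[S] R) ⧸ (K * K) := Algebra.FormallySmooth.liftOfSurjective (AlgHom.id A D) π hπ hnil
    have he : σ.comp P = Ideal.Quotient.mkₐ A (K * K) := by
      refine Algebra.FormallyUnramified.lift_unique' π hnil _ _ (AlgHom.ext fun c => ?_)
      change π (σ (P c)) = π (Ideal.Quotient.mk _ c)
      rw [Algebra.FormallySmooth.liftOfSurjective_apply]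
      rfl
    intro x hx
    rw [← Ideal.Quotient.eq_zero_iff_mem, ← Ideal.Quotient.mkₐ_eq_mk A (K * K), ← he, AlgHom.comp_apply,
      show P x = 0 from hx, map_zero]
  obtain ⟨e, he, hKe⟩ := (Ideal.isIdempotentElem_iff_of_fg K (IsNoetherian.noetherian K)).1
    (le_antisymm Ideal.mul_le_left hK2)
  let Pk := P.restrictScalars k
  let F := Algebra.TensorProduct.map Pk (AlgHom.id k H)
  let e' : (A ⊗[S] R) ⊗[k] H := e ⊗ₜ[k] (1 : H)
  have he' : e' * e' = e' := by
    rw [Algebra.TensorProduct.tmul_mul_tmul, he.eq, mul_one]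
  have heK : P e = 0 := by
    have : e ∈ K := by rw [hKe]; exact Ideal.mem_span_singleton_self e
    exact this
  have hF : ∀ z, F z = 0 → e' * z = z := by
    intro z hz
    have hz' : z ∈ RingHom.ker F := hz
    rw [show RingHom.ker F = _ from Algebra.TensorProduct.map_ker Pk (AlgHom.id k H) hsurj Function.surjective_id,
      show RingHom.ker (AlgHom.id k H) = ⊥ from RingHom.injective_iff_ker_eq_bot _ |>.1 Function.injective_id,
      Ideal.map_bot, sup_bot_eq, show RingHom.ker Pk = Ideal.span {e} from hKe,
      Ideal.map_span, Set.image_singleton, Ideal.mem_span_singleton'] at hz'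
    obtain ⟨y, rfl⟩ := hz'
    change e' * (y * e') = y * e'
    rw [mul_left_comm, he']
  have hker : ∀ (s : H →ₐ[k] H), F (twT hS s e') = 0 := fun s => by
    rw [twT_tmul_one]
    refine (twist_comm g hθ hS hg Pk ρ hP hρ s e).trans ?_
    rw [show Pk e = 0 from heK, map_zero]
  have hD : twC hS (AlgHom.id k H) e = e' := by
    have h1 := hF _ (hker (HopfAlgebra.antipodeAlgHom k H))
    have h2 := hF _ (hker (AlgHom.id k H))
    rw [twT_tmul_one] at h1 h2
    have h3 := congrArg (twT hS (AlgHom.id k H)) h1
    rw [map_mul, twT_comp, twT_tmul_one, mul_comm, h2] at h3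
    exact h3
  have hval : ∀ c : A ⊗[S] R,
      ∃ r : R, slice (α ∘ₗ HopfAlgebra.antipode k) (twC hS (AlgHom.id k H) c) = (1 : A) ⊗ₜ[S] r := by
    intro c
    induction c using TensorProduct.induction_on with
    | zero => exact ⟨0, by simp⟩
    | add p q hp hq =>
      obtain ⟨r, hr⟩ := hp; obtain ⟨r', hr'⟩ := hq
      exact ⟨r + r', by rw [map_add, map_add, hr, hr', TensorProduct.tmul_add]⟩
    | tmul a r =>
      obtain ⟨s, hs⟩ := hfix (avg α a) (avg_mem hα a)
      refine ⟨s • r, ?_⟩
      rw [twC_tmul, ← TensorProduct.smul_tmul, ← Algebra.algebraMap_eq_smul_one, hs]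
      change _ = TameAct.reynolds k H k A α a ⊗ₜ[S] r
      rw [TameAct.reynolds, LinearMap.comp_apply]
      clear hs
      induction HopfRep.Comod.coact (k := k) (A := H) a using TensorProduct.induction_on with
      | zero => simp
      | add p q hp hq => simp only [map_add, add_mul, TensorProduct.add_tmul, hp, hq]
      | tmul p q => simp [slice, inc_apply, TensorProduct.smul_tmul']
  obtain ⟨r, hr⟩ := hval e
  rw [hD, slice_tmul, LinearMap.comp_apply, HopfAlgebra.antipode_one, hα.map_one, one_smul] at hr
  have hr0 : r = 0 := hρinj (by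
    rw [map_zero, ← heK, hr, hP, map_one, one_mul])
  rw [hr0, TensorProduct.tmul_zero] at hr
  rw [injective_iff_map_eq_zero]
  intro c hc
  have : c ∈ Ideal.span {e} := by
    have hcK : c ∈ K := hc
    rwa [hKe] at hcK
  rw [hr, Ideal.mem_span_singleton] at this
  exact zero_dvd_iff.1 this

end Groth.Agent.Comod.LunaGen
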